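import Groth.Agent.L24.Tors.QuotRep
import Groth.Agent.L24.St.LocPStack
import Groth.Agent.L23.FpqcBase
import Groth.Agent.L23.FppfImmersion

/-!
Properties of `X ⟶ [X/G]`.
-/

set_option autoImplicit false
set_option backward.isDefEq.respectTransparency false
set_option backward.isDefEq.respectTransparency.types false

universe u

open CategoryTheory CategoryTheory.Limits MonoidalCategory CartesianMonoidalCategory MonObj AlgebraicGeometry AlgSp Opposite

noncomputable section

namespace Groth.L24.Tors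

open Groth.L24.St

variable {S : Scheme.{u}}

theorem pBase_surj : PBase (IsSurjectiveMor : MorphismProperty (Sp S)) :=
  fun _ _ _ _ _ _ _ _ _ b a' _ sq h y => by
    obtain ⟨x, hx⟩ := h (Points.map b y)
    obtain ⟨z, -, hz⟩ := Groth.L23.exists_of_isPullback sq x y hx
    exact ⟨z, hz⟩

theorem isLocalOnBase_fppf_surj : AlgSp.IsLocalOnBase AlgSp.IsFppfCover (IsSurjectiveMor : MorphismProperty (Sp S)) := by
  intro idx Y Yi g hY hYi hcov X f hX Xi p q hXi sq
  refine ⟨fun h i => pBase_surj hX hY (hXi i) (hYi i) f (g i) (p i) (q i) (sq i) h, fun h y => ?_⟩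
  obtain ⟨i, z, hz⟩ := hcov.2 y
  obtain ⟨w, hw⟩ := h i z
  refine ⟨Points.map (q i) w, ?_⟩
  rw [← Points.map_comp, (sq i).w, Points.map_comp, hw, hz]

theorem isLocalOnBase_fppf_locP {Q : MorphismProperty Scheme.{u}} (hQ : Groth.L23.EtLocal Q)
    [IsZariskiLocalAtTarget Q] [Q.DescendsAlong (@Surjective ⊓ @Flat ⊓ @QuasiCompact)] :
    AlgSp.IsLocalOnBase AlgSp.IsFppfCover (LocP Q : MorphismProperty (Sp S)) :=
  fun {_ _} Yi g hY hYi hcov {X} f hX Xi p q hXi sq => Groth.L23.isLocalOnBase_fpqc_locP hQ Yi g hY hYi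
    (Groth.L23.isFpqcCover_of_isFppfCover hY hYi hcov) f hX Xi p q hXi sq

variable {B : Sp S} {G : Over B} [GrpObj G] {X : Over B} (aX : AlgSp.GAction G X)

theorem surjective_group (hB : IsAlgSpace B) (hG : IsAlgSpace G.left) : IsSurjectiveMor G.hom := fun b =>
  ⟨Points.map η[G].left b, by
    rw [← Points.map_comp, Over.w η[G]]
    show Points.map (𝟙 B) b = b
    rw [Points.map_id]⟩

theorem spQuotMap_locP (hB : IsAlgSpace B) (hG : IsAlgSpace G.left) {Q : MorphismProperty Scheme.{u}}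
    (hQ : Groth.L23.EtLocal Q) [IsZariskiLocalAtTarget Q]
    [Q.DescendsAlong (@Surjective ⊓ @Flat ⊓ @QuasiCompact)] (h : LocP Q G.hom) :
    AlgSt.RepByAlgSpWith (LocP Q) (AlgSt.spQuotMap Scheme.fppfPrecoverage G aX) :=
  Quot.repByAlgSpWith_trivMap aX hB hG _ (pBase_locP hQ) (isLocalOnBase_fppf_locP hQ) h

theorem spQuotMap_surjective (hB : IsAlgSpace B) (hG : IsAlgSpace G.left) :
    AlgSt.RepByAlgSpWith IsSurjectiveMor (AlgSt.spQuotMap Scheme.fppfPrecoverage G aX) :=
  Quot.repByAlgSpWith_trivMap aX hB hG _ pBase_surj isLocalOnBase_fppf_surj (surjective_group hB hG)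

end Groth.L24.Tors
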