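import Groth.Prelude.Def_AlgSt6
import Groth.Prelude.Def_AlgSt
import Mathlib.AlgebraicGeometry.Sites.Fpqc

/-!
The category of sheaf torsors is fibred in groupoids.
-/

set_option autoImplicit false
set_option backward.isDefEq.respectTransparency false
set_option backward.isDefEq.respectTransparency.types false

universe u

open CategoryTheory CategoryTheory.Limits MonoidalCategory CartesianMonoidalCategory AlgebraicGeometry AlgSp

noncomputable section

namespace Groth.L24.Tors

variable {S : Scheme.{u}} {B : Sp S}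

theorem exists_fppf_pullback {T T' : Scheme.{u}} (f : T ⟶ T') {R : Presieve T'}
    (hR : R ∈ Scheme.fppfPrecoverage T') :
    ∃ R' ∈ Scheme.fppfPrecoverage T, ∀ ⦃W : Scheme.{u}⦄ (g : W ⟶ T), R' g →
      ∃ (W' : Scheme.{u}) (g' : W' ⟶ T') (q : W ⟶ W'), R g' ∧ q ≫ g' = g ≫ f := by
  obtain ⟨ι, Y, a, rfl⟩ := R.exists_eq_ofArrows
  obtain ⟨h1, h2⟩ := (Scheme.ofArrows_mem_precoverage_iff _).1 hR
  refine ⟨.ofArrows (fun i => pullback (a i) f) (fun i => pullback.snd (a i) f),
    (Scheme.ofArrows_mem_precoverage_iff _).2 ⟨fun x => ?_, fun i => ?_⟩, ?_⟩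
  · obtain ⟨i, y, hy⟩ := h1 (f x)
    obtain ⟨z, -, hz⟩ := Scheme.Pullback.exists_preimage_pullback (f := a i) (g := f) y x hy
    exact ⟨i, z, hz⟩
  · exact ⟨MorphismProperty.of_isPullback (IsPullback.of_hasPullback (a i) f) (h2 i).1,
      MorphismProperty.of_isPullback (IsPullback.of_hasPullback (a i) f) (h2 i).2⟩
  · rintro W g ⟨i⟩
    exact ⟨_, a i, pullback.fst (a i) f, .mk i, pullback.condition⟩

variable {G : Over B} [GrpObj G] {X : Over B} {aX : AlgSp.GAction G X}

/-- The base change of a torsor. -/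
def restrict (A : AlgSt.SpQuotObj Scheme.fppfPrecoverage G aX) {T : Over S} (f : T ⟶ A.base) :
    AlgSt.SpQuotObj Scheme.fppfPrecoverage G aX where
  base := T
  b := (yon S).map f ≫ A.b
  P := pullback A.π (AlgSt.bHom f rfl : Over.mk ((yon S).map f ≫ A.b) ⟶ Over.mk A.b)
  act :=
    { act := pullback.lift ((G ◁ pullback.fst A.π (AlgSt.bHom f rfl)) ≫ A.act.act)
        (snd G _ ≫ pullback.snd A.π (AlgSt.bHom f rfl))
        (by rw [Category.assoc, A.cart.w, whiskerLeft_snd_assoc, Category.assoc, pullback.condition])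
      one_act := by
        apply pullback.hom_ext
        · rw [Category.assoc, pullback.lift_fst, ← whisker_exchange_assoc, A.act.one_act]
          simp
        · simp [leftUnitor_hom]
      mul_act := by
        apply pullback.hom_ext
        · simp only [Category.assoc, pullback.lift_fst, pullback.lift_fst]
          rw [← whisker_exchange_assoc, A.act.mul_act, associator_naturality_right_assoc,
            ← MonoidalCategory.whiskerLeft_comp_assoc, ← MonoidalCategory.whiskerLeft_comp_assoc, pullback.lift_fst]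
        · simp }
  π := pullback.snd _ _
  cart := by
    refine IsPullback.of_right ?_ (pullback.lift_snd _ _ _) (IsPullback.of_hasPullback A.π (AlgSt.bHom f rfl))
    rw [pullback.lift_fst, ← pullback.condition]
    exact (AlgSt.isPullback_whiskerLeft' _).paste_horiz A.cart
  loc := by
    obtain ⟨R, hR, hsec⟩ := A.loc
    obtain ⟨R', hR', hR''⟩ := exists_fppf_pullback f.left hR
    refine ⟨R', hR', fun W g hg => ?_⟩
    obtain ⟨W', g', q, hg', e⟩ := hR'' g hg
    obtain ⟨s, hs⟩ := hsec g' hg'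
    let qO : Over.mk (g ≫ T.hom) ⟶ Over.mk (g' ≫ A.base.hom) := Over.homMk q (by
      show q ≫ g' ≫ A.base.hom = g ≫ T.hom
      rw [← Category.assoc, e, Category.assoc, Over.w f])
    have w : qO ≫ (Over.homMk g' : Over.mk (g' ≫ A.base.hom) ⟶ A.base) =
        (Over.homMk g : Over.mk (g ≫ T.hom) ⟶ T) ≫ f := by ext1; exact e
    have sq := (IsPullback.of_hasPullback A.π (AlgSt.bHom f rfl :
      Over.mk ((yon S).map f ≫ A.b) ⟶ Over.mk A.b)).map (Over.forget B)
    exact ⟨sq.lift ((yon S).map qO ≫ s) ((yon S).map (Over.homMk g)) (by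
      show ((yon S).map qO ≫ s) ≫ A.π.left = (yon S).map _ ≫ (yon S).map f
      rw [Category.assoc, hs, ← Functor.map_comp, ← Functor.map_comp, w]), sq.lift_snd _ _ _⟩
  φ := pullback.fst _ _ ≫ A.φ
  eqv := by
    rw [pullback.lift_fst_assoc, Category.assoc, A.eqv, MonoidalCategory.whiskerLeft_comp, Category.assoc]

/-- The projection from the base change. -/
def restrictHom (A : AlgSt.SpQuotObj Scheme.fppfPrecoverage G aX) {T : Over S} (f : T ⟶ A.base) :
    restrict A f ⟶ A where
  base := f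
  wb := rfl
  top := pullback.fst _ _
  eqv := pullback.lift_fst _ _ _
  cart := IsPullback.of_hasPullback _ _
  wφ := rfl

variable {K : Precoverage Scheme.{u}}

/-- Every morphism of torsors is cartesian. -/
theorem exists_lift_hom {A A' C : AlgSt.SpQuotObj K G aX} (φ : A ⟶ A') (φ' : C ⟶ A') (g : C.base ⟶ A.base)
    (hg : g ≫ φ.base = φ'.base) :
    ∃! χ : C ⟶ A, χ.base = g ∧ χ ≫ φ = φ' := by
  have wb : (yon S).map g ≫ A.b = C.b := by
    rw [← φ.wb, ← Category.assoc, ← Functor.map_comp, hg, φ'.wb]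
  have w : φ'.top ≫ A'.π = (C.π ≫ AlgSt.bHom g wb) ≫ AlgSt.bHom φ.base φ.wb := by
    rw [φ'.cart.w, Category.assoc]
    congr 1
    ext1
    show (yon S).map φ'.base = (yon S).map g ≫ (yon S).map φ.base
    rw [← Functor.map_comp, hg]
  let top := φ.cart.lift φ'.top (C.π ≫ AlgSt.bHom g wb) w
  let χ : C ⟶ A :=
    { base := g
      wb := wb
      top := top
      eqv := by
        apply φ.cart.hom_ext
        · rw [Category.assoc, φ.cart.lift_fst, φ'.eqv, Category.assoc, φ.eqv,
            ← MonoidalCategory.whiskerLeft_comp_assoc, φ.cart.lift_fst]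
        · rw [Category.assoc, φ.cart.lift_snd, Category.assoc, A.cart.w,
            whiskerLeft_snd_assoc, φ.cart.lift_snd, ← Category.assoc, C.cart.w, Category.assoc]
      cart := by
        refine IsPullback.of_right ?_ (φ.cart.lift_snd _ _ _) φ.cart
        rw [φ.cart.lift_fst]
        have e : AlgSt.bHom g wb ≫ AlgSt.bHom φ.base φ.wb = AlgSt.bHom φ'.base φ'.wb := by
          ext1
          show (yon S).map g ≫ (yon S).map φ.base = (yon S).map φ'.base
          rw [← Functor.map_comp, hg]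
        rw [e]
        exact φ'.cart
      wφ := by rw [← φ.wφ, φ.cart.lift_fst_assoc, φ'.wφ] }
  refine ⟨χ, ⟨rfl, AlgSt.SpQuotObj.hom_ext hg (φ.cart.lift_fst _ _ _)⟩, ?_⟩
  rintro χ' ⟨hb, hc⟩
  refine AlgSt.SpQuotObj.hom_ext hb (φ.cart.hom_ext ?_ ?_)
  · show χ'.top ≫ φ.top = top ≫ φ.top
    rw [φ.cart.lift_fst, ← hc]
    rfl
  · show χ'.top ≫ A.π = top ≫ A.π
    rw [φ.cart.lift_snd, χ'.cart.w]
    congr 1
    ext1
    show (yon S).map χ'.base = (yon S).map g
    rw [hb]

theorem isFibGrpd_spQuotSt :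
    FibCat.IsFibGrpd (AlgSt.SpQuotSt Scheme.fppfPrecoverage G aX).p where
  exists_lift := fun {A} {T} f => ⟨restrict A f, restrictHom A f, IsHomLift.map
    (AlgSt.SpQuotObj.forget Scheme.fppfPrecoverage G aX) (restrictHom A f)⟩
  isStronglyCartesian := fun {A A'} φ =>
    { universal_property' := fun {C} g φ' hφ' => by
        have hg : g ≫ φ.base = φ'.base :=
          IsHomLift.eq_of_isHomLift (AlgSt.SpQuotObj.forget Scheme.fppfPrecoverage G aX)
            (g ≫ (AlgSt.SpQuotObj.forget Scheme.fppfPrecoverage G aX).map φ) φ'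
        obtain ⟨χ, ⟨hb, hc⟩, huniq⟩ := exists_lift_hom φ φ' g hg
        subst hb
        refine ⟨χ, ⟨IsHomLift.map (AlgSt.SpQuotObj.forget Scheme.fppfPrecoverage G aX) χ, hc⟩, ?_⟩
        rintro χ' ⟨hχ', hc'⟩
        exact huniq χ' ⟨(IsHomLift.eq_of_isHomLift (AlgSt.SpQuotObj.forget Scheme.fppfPrecoverage G aX)
          χ.base χ').symm, hc'⟩ }

end Groth.L24.Tors
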