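import Groth.Agent.L24.Tors.Members
import Groth.Agent.L24.Tors.FibGrpd

/-!
Morphisms of torsors glue along a covering sieve.
-/

set_option autoImplicit false
set_option backward.isDefEq.respectTransparency false
set_option backward.isDefEq.respectTransparency.types false

universe u

open CategoryTheory CategoryTheory.Limits MonoidalCategory CartesianMonoidalCategory AlgebraicGeometry AlgSp Opposite

noncomputable section

namespace Groth.L24.Tors

variable {S : Scheme.{u}} {B : Sp S} {G : Over B} [GrpObj G] {X : Over B} {aX : AlgSp.GAction G X}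



variable {K : Precoverage Scheme.{u}}

/-- A morphism over an isomorphism of base schemes is an isomorphism. -/
theorem isIso_of_base {A A' : AlgSt.SpQuotObj K G aX} (φ : A ⟶ A') [IsIso φ.base] : IsIso φ := by
  obtain ⟨ψ, ⟨hb, hψ⟩, -⟩ := exists_lift_hom φ (𝟙 A') (inv φ.base) (IsIso.inv_hom_id _)
  refine ⟨ψ, ?_, hψ⟩
  refine (exists_lift_hom φ φ (𝟙 A.base) (Category.id_comp _)).unique ⟨?_, ?_⟩ ⟨rfl, Category.id_comp _⟩
  · rw [AlgSt.SpQuotObj.comp_base, hb, IsIso.hom_inv_id]
  · rw [Category.assoc, hψ, Category.comp_id]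

variable {x x' : AlgSt.SpQuotObj Scheme.fppfPrecoverage G aX} {R : Sieve x.base}

theorem restrict_square (x : AlgSt.SpQuotObj Scheme.fppfPrecoverage G aX) {W : Over S} (g : W ⟶ x.base) :
    IsPullback (restrictHom x g).top.left (restrict x g).π.left x.π.left ((yon S).map g) :=
  (restrictHom x g).cart.map (Over.forget B)

theorem restrict_square_tensor (x : AlgSt.SpQuotObj Scheme.fppfPrecoverage G aX) {W : Over S} (g : W ⟶ x.base) :
    IsPullback (G ◁ (restrictHom x g).top).left ((snd G (restrict x g).P).left ≫ (restrict x g).π.left)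
      ((snd G x.P).left ≫ x.π.left) ((yon S).map g) :=
  (((AlgSt.isPullback_whiskerLeft' (restrictHom x g).top).paste_vert (restrictHom x g).cart).map (Over.forget B))

/-- Morphisms with the same base agree if they agree over a covering sieve. -/
theorem hom_ext_descent (hR : R ∈ J S x.base) {h h' : x ⟶ x'} (hb : h.base = h'.base)
    (hh : ∀ ⦃W : Over S⦄ (g : W ⟶ x.base), R g → restrictHom x g ≫ h = restrictHom x g ≫ h') : h = h' :=
  AlgSt.SpQuotObj.hom_ext hb (Over.OverMorphism.ext
    (hom_ext_members (Zm := fun _ g (_ : R g) => (restrict x g).P.left) (pm := fun _ g (_ : R g) => (restrict x g).π.left) (j := fun _ g (_ : R g) => (restrictHom x g).top.left) hR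
      (fun W g _ => restrict_square x g) fun W g hg => congrArg (fun z => z.top.left) (hh g hg)))

set_option maxHeartbeats 800000 in
/-- Compatible morphisms out of the restrictions glue. -/
theorem exists_hom_descent (hR : R ∈ J S x.base) (β : x.base ⟶ x'.base)
    (v : ∀ ⦃W : Over S⦄ (g : W ⟶ x.base), R g → (restrict x g ⟶ x'))
    (hv : ∀ ⦃W : Over S⦄ (g : W ⟶ x.base) (hg : R g), (v g hg).base = g ≫ β)
    (hc : ∀ ⦃W' W : Over S⦄ (g : W ⟶ x.base) (g' : W' ⟶ x.base) (hg : R g) (hg' : R g')
      (t : restrict x g' ⟶ restrict x g), t ≫ restrictHom x g = restrictHom x g' → t ≫ v g hg = v g' hg') :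
    ∃ h : x ⟶ x', h.base = β ∧ ∀ ⦃W : Over S⦄ (g : W ⟶ x.base) (hg : R g), restrictHom x g ≫ h = v g hg := by
  have wb : (yon S).map β ≫ x'.b = x.b := hom_ext_sieve hR fun W g hg => by
    show (yon S).map g ≫ (yon S).map β ≫ x'.b = (restrict x g).b
    rw [← (v g hg).wb, ← Category.assoc, ← Functor.map_comp, hv g hg]
  have ht : ∀ ⦃W' W : Over S⦄ (k : W' ⟶ W) (g : W ⟶ x.base) (g' : W' ⟶ x.base), k ≫ g = g' →
      ∃ t : restrict x g' ⟶ restrict x g, t.base = k ∧ t ≫ restrictHom x g = restrictHom x g' :=
    fun W' W k g g' e => (exists_lift_hom (restrictHom x g) (restrictHom x g') k e).exists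
  have hj := fun W g (_ : R g) => restrict_square (W := W) x g
  obtain ⟨m, hm⟩ := exists_glue_members (Q := x'.P.left) (Zm := fun _ g (_ : R g) => (restrict x g).P.left) (pm := fun _ g (_ : R g) => (restrict x g).π.left) (j := fun _ g (_ : R g) => (restrictHom x g).top.left) hR hj (fun W g hg => (v g hg).top.left)
    fun W' W k g g' hg hg' e => by
      obtain ⟨t, htb, htc⟩ := ht k g g' e
      refine ⟨t.top.left, congrArg (fun z => z.top.left) htc, ?_, congrArg (fun z => z.top.left) (hc g g' hg hg' t htc)⟩
      subst htb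
      exact (t.cart.map (Over.forget B)).w
  have w : m ≫ x'.P.hom = x.P.hom := hom_ext_members (Zm := fun _ g (_ : R g) => (restrict x g).P.left) (pm := fun _ g (_ : R g) => (restrict x g).π.left) (j := fun _ g (_ : R g) => (restrictHom x g).top.left) hR hj fun W g hg => by
    rw [← Category.assoc, hm g hg, Over.w]
    exact (Over.w (restrictHom x g).top).symm
  let mO : x.P ⟶ x'.P := Over.homMk m w
  have hmO : ∀ ⦃W : Over S⦄ (g : W ⟶ x.base) (hg : R g), (restrictHom x g).top ≫ mO = (v g hg).top :=
    fun W g hg => Over.OverMorphism.ext (hm g hg)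
  have eqv : x.act.act ≫ mO = (G ◁ mO) ≫ x'.act.act :=
    Over.OverMorphism.ext (hom_ext_members (Zm := fun _ g (_ : R g) => (G ⊗ (restrict x g).P).left) (pm := fun _ g (_ : R g) => (snd G (restrict x g).P).left ≫ (restrict x g).π.left) (j := fun _ g (_ : R g) => (G ◁ (restrictHom x g).top).left) hR
      (fun W g _ => restrict_square_tensor x g) fun W g hg => by
        rw [← Over.comp_left, ← Over.comp_left]
        congr 1
        rw [← Category.assoc, ← (restrictHom x g).eqv, Category.assoc, hmO g hg, (v g hg).eqv,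
          ← MonoidalCategory.whiskerLeft_comp_assoc, hmO g hg])
  have wπ : mO ≫ x'.π = x.π ≫ AlgSt.bHom β wb :=
    Over.OverMorphism.ext (hom_ext_members (Zm := fun _ g (_ : R g) => (restrict x g).P.left) (pm := fun _ g (_ : R g) => (restrict x g).π.left) (j := fun _ g (_ : R g) => (restrictHom x g).top.left) hR hj fun W g hg => by
      rw [← Over.comp_left, ← Over.comp_left]
      congr 1
      rw [← Category.assoc, hmO g hg, (v g hg).cart.w, ← Category.assoc, (restrictHom x g).cart.w, Category.assoc]
      congr 1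
      ext1
      show (yon S).map (v g hg).base = (yon S).map g ≫ (yon S).map β
      rw [hv g hg, Functor.map_comp])
  have cart : IsPullback mO x.π x'.π (AlgSt.bHom β wb) := by
    let Z := pullback x'.π (AlgSt.bHom β wb)
    let c : x.P ⟶ Z := pullback.lift mO x.π wπ
    have hZ : ∀ ⦃W : Over S⦄ (g : W ⟶ x.base), R g →
        IsPullback ((restrictHom x g).top ≫ c) (restrict x g).π (pullback.snd _ _ : Z ⟶ _)
          (AlgSt.bHom g rfl) := fun W g hg => by
      refine IsPullback.of_right ?_ (by rw [Category.assoc, pullback.lift_snd]; exact (restrictHom x g).cart.w)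
        (IsPullback.of_hasPullback x'.π (AlgSt.bHom β wb))
      rw [Category.assoc, pullback.lift_fst, hmO g hg]
      have e : AlgSt.bHom g (rfl : (yon S).map g ≫ x.b = (restrict x g).b) ≫ AlgSt.bHom β wb =
          AlgSt.bHom (v g hg).base (v g hg).wb := by
        ext1
        show (yon S).map g ≫ (yon S).map β = (yon S).map (v g hg).base
        rw [hv g hg, Functor.map_comp]
      rw [e]
      exact (v g hg).cart
    have hjZ := fun W g (hg : R g) => (hZ (W := W) g hg).map (Over.forget B)
    obtain ⟨d, hd⟩ := exists_glue_members (Q := x.P.left) (Zm := fun _ g (_ : R g) => (restrict x g).P.left) (pm := fun _ g (_ : R g) => (restrict x g).π.left) (j := fun _ g (_ : R g) => ((restrictHom x g).top ≫ c).left) hR hjZ (fun W g hg => (restrictHom x g).top.left)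
      fun W' W k g g' hg hg' e => by
        obtain ⟨t, htb, htc⟩ := ht k g g' e
        refine ⟨t.top.left, ?_, ?_, congrArg (fun z => z.top.left) htc⟩
        · show _ ≫ ((restrictHom x g).top ≫ c).left = ((restrictHom x g').top ≫ c).left
          rw [← Over.comp_left, ← Category.assoc, ← AlgSt.SpQuotObj.comp_top, htc]
        · subst htb
          exact (t.cart.map (Over.forget B)).w
    have e1 : c.left ≫ d = 𝟙 _ := hom_ext_members (Zm := fun _ g (_ : R g) => (restrict x g).P.left) (pm := fun _ g (_ : R g) => (restrict x g).π.left) (j := fun _ g (_ : R g) => (restrictHom x g).top.left) hR hj fun W g hg => by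
      rw [← Category.assoc, ← Over.comp_left]
      exact (hd g hg).trans (Category.comp_id _).symm
    have e2 : d ≫ c.left = 𝟙 _ := hom_ext_members (Zm := fun _ g (_ : R g) => (restrict x g).P.left) (pm := fun _ g (_ : R g) => (restrict x g).π.left) (j := fun _ g (_ : R g) => ((restrictHom x g).top ≫ c).left) hR hjZ fun W g hg => by
      rw [← Category.assoc, hd g hg, ← Over.comp_left]
      exact (Category.comp_id _).symm
    have : IsIso c := by
      have : IsIso ((Over.forget B).map c) := ⟨d, e1, e2⟩
      exact isIso_of_reflects_iso c (Over.forget B)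
    exact (IsPullback.of_hasPullback x'.π (AlgSt.bHom β wb)).of_iso (asIso c).symm (Iso.refl _) (Iso.refl _)
      (Iso.refl _) (by simp [c]) (by simp [c]) (by simp) (by simp)
  have wφ : mO ≫ x'.φ = x.φ :=
    Over.OverMorphism.ext (hom_ext_members (Zm := fun _ g (_ : R g) => (restrict x g).P.left) (pm := fun _ g (_ : R g) => (restrict x g).π.left) (j := fun _ g (_ : R g) => (restrictHom x g).top.left) hR hj fun W g hg => by
      rw [← Over.comp_left, ← Over.comp_left]
      congr 1
      rw [← Category.assoc, hmO g hg, (v g hg).wφ]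
      exact (restrictHom x g).wφ.symm)
  exact ⟨⟨β, wb, mO, eqv, cart, wφ⟩, rfl, fun W g hg => AlgSt.SpQuotObj.hom_ext (hv g hg).symm (hmO g hg)⟩

end Groth.L24.Tors
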