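import Groth.Agent.L24.Tors.TorsGlue
import Groth.Agent.L24.Tors.HomDescent
import Groth.Prelude.Def_AlgSt

/-!
Sheaf torsors form a stack.
-/

set_option autoImplicit false
set_option backward.isDefEq.respectTransparency false
set_option backward.isDefEq.respectTransparency.types false

universe u v w

open CategoryTheory CategoryTheory.Limits MonoidalCategory CartesianMonoidalCategory AlgebraicGeometry AlgSp Opposite

noncomputable section

namespace Groth.L24.Tors

variable {S : Scheme.{u}} {B : Sp S} {G : Over B} [GrpObj G] {X : Over B} {aX : AlgSp.GAction G X}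

section Calc

variable {𝒴 : BasedCategory.{v, w} (Over S)}
  (F : 𝒴 ⥤ᵇ AlgSt.SpQuotSt Scheme.fppfPrecoverage G aX)

theorem base_obj (a : 𝒴.obj) : (F.obj a).base = 𝒴.p.obj a := F.w_obj a

theorem base_map {a b : 𝒴.obj} (φ : a ⟶ b) :
    (F.map φ).base ≫ eqToHom (base_obj F b) = eqToHom (base_obj F a) ≫ 𝒴.p.map φ := by
  have h := Functor.congr_hom F.w φ
  change (F.map φ).base = eqToHom _ ≫ 𝒴.p.map φ ≫ eqToHom _ at h
  rw [h]
  simp

theorem app_base {F' : 𝒴 ⥤ᵇ AlgSt.SpQuotSt Scheme.fppfPrecoverage G aX} (γ : F ⟶ F') (a : 𝒴.obj) :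
    (γ.toNatTrans.app a).base ≫ eqToHom (base_obj F' a) = eqToHom (base_obj F a) := by
  have h := γ.isHomLift' a
  have h' := IsHomLift.fac' (AlgSt.SpQuotSt Scheme.fppfPrecoverage G aX).p (𝟙 (𝒴.p.obj a)) (γ.toNatTrans.app a)
  change (γ.toNatTrans.app a).base = _ at h'
  rw [h']
  simp

/-- A family of morphisms over identities is a transformation over the base. -/
def mkNatTrans {F F' : 𝒴 ⥤ᵇ AlgSt.SpQuotSt Scheme.fppfPrecoverage G aX} (app : ∀ a, F.obj a ⟶ F'.obj a)
    (hb : ∀ a, (app a).base ≫ eqToHom (base_obj F' a) = eqToHom (base_obj F a))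
    (nat : ∀ {a b} (φ : a ⟶ b), F.map φ ≫ app b = app a ≫ F'.map φ) : F ⟶ F' where
  toNatTrans := { app := app, naturality := fun a b φ => nat φ }
  isHomLift' a := by
    refine IsHomLift.of_fac' _ _ _ (base_obj F a) (base_obj F' a) ?_
    show (app a).base = _
    rw [← hb a]
    simp

end Calc

variable {U : Over S} {R : Sieve U}

/-- The terminal object of the slice. -/
abbrev idOver (U : Over S) : (FibCat.overCat U).obj := Over.mk (𝟙 U)

/-- The map to the terminal object. -/
abbrev toId {U : Over S} (a : (FibCat.overCat U).obj) : a ⟶ idOver U := Over.homMk a.hom (Category.comp_id _)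

theorem map_toId_base (Φ : FibCat.overCat U ⥤ᵇ AlgSt.SpQuotSt Scheme.fppfPrecoverage G aX)
    (a : (FibCat.overCat U).obj) :
    (Φ.map (toId a)).base ≫ eqToHom (base_obj Φ (idOver U)) = eqToHom (base_obj Φ a) ≫ a.hom :=
  base_map Φ (toId a)

set_option maxHeartbeats 800000 in
theorem faithful (hR : R ∈ J S U) :
    (Stk.resSieve R (AlgSt.SpQuotSt Scheme.fppfPrecoverage G aX)).Faithful := by
  refine ⟨fun {Φ Ψ} α β hαβ => ?_⟩
  have hsv : ∀ a : (Stk.sieveCat R).obj, α.toNatTrans.app a.obj = β.toNatTrans.app a.obj := fun a =>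
    congrArg (fun t => t.toNatTrans.app a) hαβ
  let x := Φ.obj (idOver U)
  have h0 : α.toNatTrans.app (idOver U) = β.toNatTrans.app (idOver U) := by
    refine hom_ext_descent (R := R.pullback (eqToHom (base_obj Φ (idOver U))))
      ((J S).pullback_stable _ hR) ?_ fun W g hg => ?_
    · rw [← cancel_mono (eqToHom (base_obj Ψ (idOver U)))]
      exact (app_base Φ α _).trans (app_base Φ β _).symm
    · let a : (Stk.sieveCat R).obj := ⟨Over.mk (g ≫ eqToHom (base_obj Φ (idOver U))), hg⟩
      obtain ⟨c, -, hc⟩ := (exists_lift_hom (Φ.map (toId a.obj)) (restrictHom (Φ.obj (idOver U)) g)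
        (eqToHom (base_obj Φ a.obj).symm) (by
          rw [← cancel_mono (eqToHom (base_obj Φ (idOver U))), Category.assoc, map_toId_base,
            eqToHom_trans_assoc, eqToHom_refl, Category.id_comp]
          rfl)).exists
      rw [← hc, Category.assoc, Category.assoc, α.toNatTrans.naturality, β.toNatTrans.naturality, hsv a]
  refine BasedNatTrans.homCategory.ext _ _ (NatTrans.ext (funext fun a => ?_))
  have hw : α.toNatTrans.app a ≫ Ψ.map (toId a) = β.toNatTrans.app a ≫ Ψ.map (toId a) := by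
    rw [← α.toNatTrans.naturality, ← β.toNatTrans.naturality, h0]
  refine (exists_lift_hom (Ψ.map (toId a)) (α.toNatTrans.app a ≫ Ψ.map (toId a)) (α.toNatTrans.app a).base
    rfl).unique ⟨rfl, rfl⟩ ⟨?_, hw.symm⟩
  rw [← cancel_mono (eqToHom (base_obj Ψ a))]
  exact (app_base Φ β _).trans (app_base Φ α _).symm

set_option maxHeartbeats 800000 in
theorem full (hR : R ∈ J S U) : (Stk.resSieve R (AlgSt.SpQuotSt Scheme.fppfPrecoverage G aX)).Full := by
  refine ⟨fun {Φ Ψ} γ => ?_⟩
  have hγb : ∀ a : (Stk.sieveCat R).obj,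
      (γ.toNatTrans.app a).base ≫ eqToHom (base_obj Ψ a.obj) = eqToHom (base_obj Φ a.obj) := fun a => app_base _ γ a
  let e := base_obj Φ (idOver U)
  let e' := base_obj Ψ (idOver U)
  let aOf : ∀ ⦃W : Over S⦄ (g : W ⟶ (Φ.obj (idOver U)).base), (R.pullback (eqToHom e)) g →
      (Stk.sieveCat R).obj := fun W g hg => ⟨Over.mk (g ≫ eqToHom e), hg⟩
  have hc : ∀ ⦃W : Over S⦄ (g : W ⟶ (Φ.obj (idOver U)).base) (hg : (R.pullback (eqToHom e)) g),
      ∃ c : restrict (Φ.obj (idOver U)) g ⟶ Φ.obj (aOf g hg).obj,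
        c.base = eqToHom (base_obj Φ (aOf g hg).obj).symm ∧
          c ≫ Φ.map (toId (aOf g hg).obj) = restrictHom (Φ.obj (idOver U)) g := fun W g hg =>
    (exists_lift_hom (Φ.map (toId (aOf g hg).obj)) (restrictHom (Φ.obj (idOver U)) g)
      (eqToHom (base_obj Φ (aOf g hg).obj).symm) (by
        rw [← cancel_mono (eqToHom e), Category.assoc, map_toId_base, eqToHom_trans_assoc, eqToHom_refl,
          Category.id_comp]
        rfl)).exists
  choose c hcb hcc using hc
  let T : ∀ a : (Stk.sieveCat R).obj, Φ.obj a.obj ⟶ Ψ.obj (idOver U) :=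
    fun a => γ.toNatTrans.app a ≫ Ψ.map (toId a.obj)
  have hT : ∀ {a b : (Stk.sieveCat R).obj} (φ : a ⟶ b), Φ.map φ.hom ≫ T b = T a := fun {a b} φ => by
    show Φ.map φ.hom ≫ γ.toNatTrans.app b ≫ _ = γ.toNatTrans.app a ≫ _
    have hn := γ.toNatTrans.naturality φ
    change Φ.map φ.hom ≫ γ.toNatTrans.app b = γ.toNatTrans.app a ≫ Ψ.map φ.hom at hn
    rw [reassoc_of% hn, ← Functor.map_comp]
    congr 2
    exact Over.OverMorphism.ext (Over.w φ.hom)
  obtain ⟨h, hhb, hh⟩ := exists_hom_descent (x := Φ.obj (idOver U)) (x' := Ψ.obj (idOver U))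
    (R := R.pullback (eqToHom e)) ((J S).pullback_stable _ hR) (eqToHom e ≫ eqToHom e'.symm)
    (fun W g hg => c g hg ≫ T (aOf g hg))
    (fun W g hg => by
      rw [← cancel_mono (eqToHom e'), AlgSt.SpQuotObj.comp_base, AlgSt.SpQuotObj.comp_base, Category.assoc,
        Category.assoc]
      erw [map_toId_base Ψ (aOf g hg).obj]
      rw [reassoc_of% hγb, hcb, eqToHom_trans_assoc, eqToHom_refl, Category.id_comp]
      simp [aOf])
    (fun W' W g g' hg hg' t ht => by
      have hk : t.base ≫ g = g' := congrArg (fun z => z.base) ht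
      let φ : aOf g' hg' ⟶ aOf g hg := ObjectProperty.homMk (Over.homMk t.base (by
        show t.base ≫ g ≫ eqToHom e = g' ≫ eqToHom e
        rw [← Category.assoc, hk]))
      have key : c g' hg' ≫ Φ.map φ.hom = t ≫ c g hg := by
        refine (exists_lift_hom (Φ.map (toId (aOf g hg).obj)) (restrictHom (Φ.obj (idOver U)) g')
          (t.base ≫ eqToHom (base_obj Φ (aOf g hg).obj).symm) ?_).unique ⟨?_, ?_⟩ ⟨?_, ?_⟩
        · rw [← cancel_mono (eqToHom e), Category.assoc, Category.assoc, map_toId_base, eqToHom_trans_assoc,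
            eqToHom_refl, Category.id_comp]
          show t.base ≫ g ≫ eqToHom e = g' ≫ eqToHom e
          rw [← Category.assoc, hk]
        · rw [← cancel_mono (eqToHom (base_obj Φ (aOf g hg).obj)), AlgSt.SpQuotObj.comp_base, Category.assoc,
            base_map, hcb, eqToHom_trans_assoc, eqToHom_refl, Category.id_comp]
          simp [φ]
          rfl
        · rw [Category.assoc, ← Functor.map_comp]
          refine Eq.trans ?_ (hcc g' hg')
          congr 2
          exact Over.OverMorphism.ext (Over.w φ.hom)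
        · rw [AlgSt.SpQuotObj.comp_base, hcb]
        · rw [Category.assoc, hcc g hg, ht]
      rw [← reassoc_of% key, hT φ])
  have happ : ∀ a : (FibCat.overCat U).obj, ∃ m : Φ.obj a ⟶ Ψ.obj a,
      m.base = eqToHom ((base_obj Φ a).trans (base_obj Ψ a).symm) ∧ m ≫ Ψ.map (toId a) = Φ.map (toId a) ≫ h :=
    fun a => (exists_lift_hom (Ψ.map (toId a)) (Φ.map (toId a) ≫ h)
      (eqToHom ((base_obj Φ a).trans (base_obj Ψ a).symm)) (by
        rw [← cancel_mono (eqToHom e'), Category.assoc, map_toId_base, AlgSt.SpQuotObj.comp_base, hhb,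
          Category.assoc, Category.assoc, eqToHom_trans, eqToHom_refl, Category.comp_id, map_toId_base,
          eqToHom_trans_assoc])).exists
  choose m hmb hmc using happ
  refine ⟨mkNatTrans m (fun a => by rw [hmb, eqToHom_trans]) (fun {a b} φ => ?_), ?_⟩
  · refine (exists_lift_hom (Ψ.map (toId b)) (Φ.map (toId a) ≫ h)
      ((Φ.map φ).base ≫ eqToHom ((base_obj Φ b).trans (base_obj Ψ b).symm)) ?_).unique ⟨?_, ?_⟩ ⟨?_, ?_⟩
    · rw [← cancel_mono (eqToHom e'), AlgSt.SpQuotObj.comp_base, hhb, Category.assoc, Category.assoc,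
        map_toId_base, Category.assoc, Category.assoc, eqToHom_trans, eqToHom_refl, Category.comp_id,
        map_toId_base, eqToHom_trans_assoc, reassoc_of% base_map]
      congr 1
      exact Over.w φ
    · rw [AlgSt.SpQuotObj.comp_base, hmb]
    · rw [Category.assoc, hmc, ← Category.assoc, ← Functor.map_comp]
      congr 2
      exact Over.OverMorphism.ext (Over.w φ)
    · rw [← cancel_mono (eqToHom (base_obj Ψ b)), AlgSt.SpQuotObj.comp_base, hmb, Category.assoc, base_map,
        eqToHom_trans_assoc, Category.assoc, eqToHom_trans, base_map]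
    · rw [Category.assoc, ← Functor.map_comp]
      refine Eq.trans ?_ (hmc a)
      congr 2
      exact Over.OverMorphism.ext (Over.w φ)
  · refine BasedNatTrans.homCategory.ext _ _ (NatTrans.ext (funext fun a => ?_))
    show m a.obj = γ.toNatTrans.app a
    refine (exists_lift_hom (Ψ.map (toId a.obj)) (Φ.map (toId a.obj) ≫ h)
      (eqToHom ((base_obj Φ a.obj).trans (base_obj Ψ a.obj).symm)) ?_).unique ⟨hmb _, hmc _⟩ ⟨?_, ?_⟩
    · exact (congrArg (· ≫ _) (hmb _)).symm.trans (congrArg (fun z => z.base) (hmc a.obj))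
    · rw [← cancel_mono (eqToHom (base_obj Ψ a.obj)), hγb, eqToHom_trans]
    · let g : a.obj.left ⟶ (Φ.obj (idOver U)).base := a.obj.hom ≫ eqToHom e.symm
      have hg : (R.pullback (eqToHom e)) g := by
        show R ((a.obj.hom ≫ eqToHom e.symm) ≫ eqToHom e)
        rw [Category.assoc, eqToHom_trans, eqToHom_refl, Category.comp_id]
        exact a.property
      let φ : aOf g hg ⟶ a := ObjectProperty.homMk (Over.homMk (𝟙 _) (by simp [aOf, g]))
      have : IsIso (c g hg).base := by rw [hcb]; infer_instance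
      have := isIso_of_base (c g hg)
      have : IsIso φ.hom := by
        have : IsIso ((Over.forget U).map φ.hom) := inferInstanceAs (IsIso (𝟙 _))
        exact isIso_of_reflects_iso φ.hom (Over.forget U)
      rw [← cancel_epi (c g hg ≫ Φ.map φ.hom), Category.assoc, Category.assoc, ← Functor.map_comp_assoc,
        show γ.toNatTrans.app a ≫ Ψ.map (toId a.obj) = T a from rfl, hT φ,
        show φ.hom ≫ toId a.obj = toId (aOf g hg).obj from Over.OverMorphism.ext (Over.w φ.hom), reassoc_of% hcc]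
      exact (hh g hg).symm

theorem exists_fam (Γ : Stk.sieveCat R ⥤ᵇ AlgSt.SpQuotSt Scheme.fppfPrecoverage G aX) :
    ∃ (D : TFam G aX R) (r : ∀ ⦃W : Over S⦄ (g : W ⟶ U) (hg : R g), (D.A g hg).obj ⟶ Γ.obj ⟨Over.mk g, hg⟩),
      (∀ ⦃W : Over S⦄ (g : W ⟶ U) (hg : R g), (r g hg).base = eqToHom (base_obj Γ ⟨Over.mk g, hg⟩).symm) ∧
      ∀ ⦃W' W : Over S⦄ (k : W' ⟶ W) (g : W ⟶ U) (g' : W' ⟶ U) (hg : R g) (hg' : R g') (e : k ≫ g = g'),
        D.hom k g g' hg hg' e ≫ r g hg =
          r g' hg' ≫ Γ.map (ObjectProperty.homMk (Over.homMk k e) : (⟨Over.mk g', hg'⟩ : (Stk.sieveCat R).obj) ⟶ ⟨Over.mk g, hg⟩) := by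
  let f : ∀ ⦃W : Over S⦄ (g : W ⟶ U) (hg : R g), W ⟶ (Γ.obj ⟨Over.mk g, hg⟩).base :=
    fun W g hg => eqToHom (base_obj Γ ⟨Over.mk g, hg⟩).symm
  let A : ∀ ⦃W : Over S⦄ (g : W ⟶ U), R g → TObj G aX W := fun W g hg =>
    let P := restrict (Γ.obj ⟨Over.mk g, hg⟩) (f g hg)
    ⟨P.b, P.P, P.act, P.π, P.cart, P.loc, P.φ, P.eqv⟩
  let r : ∀ ⦃W : Over S⦄ (g : W ⟶ U) (hg : R g), (A g hg).obj ⟶ Γ.obj ⟨Over.mk g, hg⟩ :=
    fun W g hg => restrictHom _ (f g hg)
  have hh : ∀ ⦃W' W : Over S⦄ (k : W' ⟶ W) (g : W ⟶ U) (g' : W' ⟶ U) (hg : R g) (hg' : R g') (e : k ≫ g = g'),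
      ∃! χ : (A g' hg').obj ⟶ (A g hg).obj, χ.base = k ∧ χ ≫ r g hg =
        r g' hg' ≫ Γ.map (ObjectProperty.homMk (Over.homMk k e) :
          (⟨Over.mk g', hg'⟩ : (Stk.sieveCat R).obj) ⟶ ⟨Over.mk g, hg⟩) := fun W' W k g g' hg hg' e =>
    exists_lift_hom (r g hg) (r g' hg' ≫ Γ.map (ObjectProperty.homMk (Over.homMk k e) :
          (⟨Over.mk g', hg'⟩ : (Stk.sieveCat R).obj) ⟶ ⟨Over.mk g, hg⟩)) k (by
      show k ≫ f g hg = f g' hg' ≫ (Γ.map _).base
      rw [← cancel_mono (eqToHom (base_obj Γ ⟨Over.mk g, hg⟩)), Category.assoc, Category.assoc, base_map,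
        eqToHom_trans, eqToHom_trans_assoc, eqToHom_refl, Category.comp_id]
      exact (Category.id_comp _).symm)
  let D : TFam G aX R :=
    { A := A
      hom := fun W' W k g g' hg hg' e => (hh k g g' hg hg' e).exists.choose
      base := fun W' W k g g' hg hg' e => (hh k g g' hg hg' e).exists.choose_spec.1
      comp := fun W'' W' W l k g g' g'' hg hg' hg'' e e' e'' => by
        refine (hh (l ≫ k) g g'' hg hg'' e'').unique ⟨?_, ?_⟩ (hh (l ≫ k) g g'' hg hg'' e'').exists.choose_spec
        · rw [AlgSt.SpQuotObj.comp_base, (hh k g g' hg hg' e).exists.choose_spec.1,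
            (hh l g' g'' hg' hg'' e').exists.choose_spec.1]
        · rw [Category.assoc, (hh k g g' hg hg' e).exists.choose_spec.2,
            reassoc_of% (hh l g' g'' hg' hg'' e').exists.choose_spec.2, ← Functor.map_comp]
          rfl }
  exact ⟨D, r, fun W g hg => rfl, fun W' W k g g' hg hg' e => (hh k g g' hg hg' e).exists.choose_spec.2⟩

/-- The functor out of the slice given by an object over its vertex. -/
theorem exists_funOf (A : TObj G aX U) :
    ∃ (Φ : FibCat.overCat U ⥤ᵇ AlgSt.SpQuotSt Scheme.fppfPrecoverage G aX)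
      (p : ∀ a : (FibCat.overCat U).obj, Φ.obj a ⟶ A.obj),
      (∀ a, (p a).base = eqToHom (base_obj Φ a) ≫ a.hom) ∧ ∀ {a b} (φ : a ⟶ b), Φ.map φ ≫ p b = p a := by
  have hl : ∀ {a b : Over U} (φ : a ⟶ b), ∃! χ : restrict A.obj a.hom ⟶ restrict A.obj b.hom,
      χ.base = φ.left ∧ χ ≫ restrictHom A.obj b.hom = restrictHom A.obj a.hom := fun {a b} φ =>
    exists_lift_hom (restrictHom A.obj b.hom) (restrictHom A.obj a.hom) φ.left (Over.w φ)
  let F : Over U ⥤ AlgSt.SpQuotObj Scheme.fppfPrecoverage G aX :=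
    { obj := fun a => restrict A.obj a.hom
      map := fun φ => (hl φ).exists.choose
      map_id := fun a => (hl (𝟙 a)).unique (hl (𝟙 a)).exists.choose_spec ⟨rfl, Category.id_comp _⟩
      map_comp := fun {a b c} φ ψ => (hl (φ ≫ ψ)).unique (hl (φ ≫ ψ)).exists.choose_spec
        ⟨by rw [AlgSt.SpQuotObj.comp_base, (hl φ).exists.choose_spec.1, (hl ψ).exists.choose_spec.1]; rfl,
          by rw [Category.assoc, (hl ψ).exists.choose_spec.2, (hl φ).exists.choose_spec.2]⟩ }
  let Φ : FibCat.overCat U ⥤ᵇ AlgSt.SpQuotSt Scheme.fppfPrecoverage G aX :=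
    { toFunctor := F
      w := Functor.hext (fun a => rfl) fun a b φ => heq_of_eq (hl φ).exists.choose_spec.1 }
  exact ⟨Φ, fun a => restrictHom A.obj a.hom, fun a => (Category.id_comp _).symm, fun φ => (hl φ).exists.choose_spec.2⟩

set_option maxHeartbeats 800000 in
theorem essSurj (hR : R ∈ J S U) : (Stk.resSieve R (AlgSt.SpQuotSt Scheme.fppfPrecoverage G aX)).EssSurj := by
  refine ⟨fun Γ => ?_⟩
  obtain ⟨D, r, hrb, hr⟩ := exists_fam Γ
  obtain ⟨Φ, p, hpb, hp⟩ := exists_funOf (D.glued hR)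
  have hriso : ∀ ⦃W : Over S⦄ (g : W ⟶ U) (hg : R g), IsIso (r g hg) := fun W g hg => by
    have : IsIso (r g hg).base := by rw [hrb]; infer_instance
    exact isIso_of_base _
  let τ : ∀ a : (Stk.sieveCat R).obj, Γ.obj a ⟶ (D.glued hR).obj := fun a =>
    have : IsIso (r a.obj.hom a.property) := hriso _ _
    inv (r a.obj.hom a.property) ≫ D.toGlued hR a.obj.hom a.property
  have hτn : ∀ {a b : (Stk.sieveCat R).obj} (φ : a ⟶ b), Γ.map φ ≫ τ b = τ a := fun {a b} φ => by
    have : IsIso (r a.obj.hom a.property) := hriso _ _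
    have : IsIso (r b.obj.hom b.property) := hriso _ _
    have h1 := hr φ.hom.left b.obj.hom a.obj.hom b.property a.property (Over.w φ.hom)
    show _ = inv (r a.obj.hom a.property) ≫ _
    rw [IsIso.eq_inv_comp, ← Category.assoc]
    have h2 : r a.obj.hom a.property ≫ Γ.map φ =
        D.hom φ.hom.left b.obj.hom a.obj.hom b.property a.property (Over.w φ.hom) ≫ r b.obj.hom b.property :=
      h1.symm
    rw [h2, Category.assoc, IsIso.hom_inv_id_assoc, D.hom_toGlued]
  have hτb : ∀ a : (Stk.sieveCat R).obj, (τ a).base = eqToHom (base_obj Γ a) ≫ a.obj.hom := fun a => by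
    have : IsIso (r a.obj.hom a.property) := hriso _ _
    have e : r a.obj.hom a.property ≫ τ a = D.toGlued hR a.obj.hom a.property := IsIso.hom_inv_id_assoc _ _
    have e' := congrArg (fun z => z.base) e
    simp only [AlgSt.SpQuotObj.comp_base, hrb] at e'
    rw [← cancel_epi (eqToHom (base_obj Γ a).symm), eqToHom_trans_assoc, eqToHom_refl, Category.id_comp]
    exact e'
  have happ : ∀ a : (Stk.sieveCat R).obj, ∃! m : Γ.obj a ⟶ Φ.obj a.obj,
      m.base = eqToHom ((base_obj Γ a).trans (base_obj Φ a.obj).symm) ∧ m ≫ p a.obj = τ a := fun a =>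
    exists_lift_hom (p a.obj) (τ a) _ (by rw [hpb, hτb, eqToHom_trans_assoc])
  choose m hm using fun a => (happ a).exists
  have hiso : ∀ a, IsIso (m a) := fun a => by
    have : IsIso (m a).base := by rw [(hm a).1]; infer_instance
    exact isIso_of_base _
  let η : Γ ⟶ (Stk.resSieve R (AlgSt.SpQuotSt Scheme.fppfPrecoverage G aX)).obj Φ :=
    mkNatTrans m (fun a => by rw [(hm a).1, eqToHom_trans]) fun {a b} φ => by
      refine (exists_lift_hom (p b.obj) (τ a) ((Γ.map φ).base ≫ (m b).base) ?_).unique ⟨rfl, ?_⟩ ⟨?_, ?_⟩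
      · rw [Category.assoc, hpb, (hm b).1, eqToHom_trans_assoc, hτb, reassoc_of% base_map]
        congr 1
        exact Over.w φ.hom
      · rw [Category.assoc, (hm b).2, hτn φ]
      · rw [AlgSt.SpQuotObj.comp_base, (hm a).1, (hm b).1]
        show _ ≫ (Φ.map φ.hom).base = _
        rw [← cancel_mono (eqToHom (base_obj Φ b.obj)), Category.assoc, Category.assoc, base_map,
          eqToHom_trans_assoc, eqToHom_trans]
        exact (base_map Γ φ).symm
      · show (m a ≫ Φ.map φ.hom) ≫ p b.obj = _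
        rw [Category.assoc, hp φ.hom, (hm a).2]
  let ν : (Stk.resSieve R (AlgSt.SpQuotSt Scheme.fppfPrecoverage G aX)).obj Φ ⟶ Γ :=
    mkNatTrans (fun a => have := hiso a; inv (m a))
      (fun a => by
        have := hiso a
        have e := congrArg (fun z => z.base) (IsIso.inv_hom_id (m a))
        have hb : (m a).base ≫ eqToHom (base_obj Φ a.obj) = eqToHom (base_obj Γ a) := by
          rw [(hm a).1, eqToHom_trans]
        show (inv (m a)).base ≫ eqToHom (base_obj Γ a) = eqToHom (base_obj Φ a.obj)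
        rw [← hb, ← Category.assoc, ← AlgSt.SpQuotObj.comp_base, IsIso.inv_hom_id, AlgSt.SpQuotObj.id_base]
        exact Category.id_comp _)
      fun {a b} φ => by
        have := hiso a
        have := hiso b
        rw [IsIso.eq_inv_comp, ← Category.assoc]
        refine (IsIso.comp_inv_eq _).2 ?_
        exact (η.toNatTrans.naturality φ).symm
  refine ⟨Φ, ⟨⟨ν, η, ?_, ?_⟩⟩⟩
  · refine BasedNatTrans.homCategory.ext _ _ (NatTrans.ext (funext fun a => ?_))
    have := hiso a
    exact IsIso.inv_hom_id (m a)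
  · refine BasedNatTrans.homCategory.ext _ _ (NatTrans.ext (funext fun a => ?_))
    have := hiso a
    exact IsIso.hom_inv_id (m a)

/-- Sheaf torsors with an equivariant map form a stack. -/
theorem isStack_spQuotSt :
    Stk.IsStack (AlgSp.J S) (AlgSt.SpQuotSt Scheme.fppfPrecoverage G aX) :=
  ⟨isFibGrpd_spQuotSt, fun _ _ hR =>
    have := faithful (G := G) (aX := aX) hR
    have := full (G := G) (aX := aX) hR
    have := essSurj (G := G) (aX := aX) hR
    Functor.IsEquivalence.mk⟩

end Groth.L24.Tors
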