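import Groth.Agent.L24.Tors.QuotTransfer
import Groth.Agent.L24.St.Bootstrap3

/-!
For a smooth group scheme etale torsors are fppf torsors.
-/

set_option autoImplicit false
set_option backward.isDefEq.respectTransparency false
set_option backward.isDefEq.respectTransparency.types false

universe u

open CategoryTheory CategoryTheory.Limits MonoidalCategory CartesianMonoidalCategory MonObj AlgebraicGeometry AlgSp Opposite

noncomputable section

namespace Groth.L24.Tors

open Groth.L24.St

variable {S : Scheme.{u}} {G : Over S} [GrpObj G] {X : Over S} (aX : AlgGrp.Action G X)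

/-- Etale torsors as fppf torsors. -/
def etaleToFppf : AlgSt.QuotSt Scheme.etalePrecoverage G aX ⥤ᵇ AlgSt.QuotSt Scheme.fppfPrecoverage G aX where
  toFunctor :=
    { obj := fun A =>
        { base := A.base
          P := A.P
          act := A.act
          π := A.π
          cart := A.cart
          loc := by
            obtain ⟨R, hR, h⟩ := A.loc
            exact ⟨R, BigSite.etalePrecoverage_le_fppfPrecoverage _ hR, h⟩
          φ := A.φ
          eqv := A.eqv }
      map := fun f => ⟨f.base, f.top, f.eqv, f.cart, f.wφ⟩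
      map_id := fun _ => rfl
      map_comp := fun _ _ => rfl }
  w := rfl

theorem faithful_etaleToFppf : (etaleToFppf aX).toFunctor.Faithful := ⟨fun {A A' f g} h =>
  AlgSt.QuotObj.hom_ext (congrArg (fun z => z.base) h) (congrArg (fun z => z.top) h)⟩

theorem full_etaleToFppf : (etaleToFppf aX).toFunctor.Full :=
  ⟨fun {A A'} h => ⟨⟨h.base, h.top, h.eqv, h.cart, h.wφ⟩, rfl⟩⟩

theorem smooth_torsor [Smooth G.hom] (A : AlgSt.QuotObj Scheme.fppfPrecoverage G aX) : Smooth A.π.left := by
  have h := prop_torsor ((toSpQuot Scheme.fppfPrecoverage G aX).obj A) (IsAlgSpace.yon_obj _) (isAlgSpace_schSp G)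
    (LocP @Smooth) (pBase_locP Groth.L23.etLocal_smooth) (isLocalOnBase_fppf_locP Groth.L23.etLocal_smooth)
    (locP_schSp_hom Groth.L23.etLocal_smooth inferInstance)
  exact h (𝟙 _) (𝟙 _) A.π (Groth.L23.repWith_of_isIso _) (Groth.L23.repWith_of_isIso _)
    ((Category.id_comp _).trans (Category.comp_id _).symm)

theorem surjective_torsor {K : Precoverage Scheme.{u}} (hK : K ≤ Scheme.fppfPrecoverage)
    (A : AlgSt.QuotObj K G aX) : Surjective A.π.left := by
  obtain ⟨R, hR, h⟩ := A.loc
  obtain ⟨ι', Y, f, rfl⟩ := R.exists_eq_ofArrows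
  obtain ⟨hsurj, -⟩ := (Scheme.ofArrows_mem_precoverage_iff _).1 (hK _ hR)
  refine ⟨fun x => ?_⟩
  obtain ⟨i, y, rfl⟩ := hsurj x
  obtain ⟨s, hs⟩ := h (f i) (.mk i)
  refine ⟨s y, ?_⟩
  show (s ≫ (Over.mk A.π.left : Over A.base.left).hom) y = _
  rw [hs]

theorem isEquivOver_etaleToFppf [Smooth G.hom] : FibCat.IsEquivOver (etaleToFppf aX) := by
  have := faithful_etaleToFppf aX
  have := full_etaleToFppf aX
  refine isEquivOver_of_overId _ fun A => ?_
  have := smooth_torsor aX A
  have := surjective_torsor aX le_rfl A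
  obtain ⟨T', e, h, he, hes, w⟩ := Groth.L24.Boot.exists_etale_refinement A.π
  have hloc : NonAbH1.IsLocallyTrivialFor Scheme.etalePrecoverage (Over.mk A.π.left : Over A.base.left) :=
    ⟨.singleton e.left, (Scheme.singleton_mem_precoverage_iff (P := @Etale) e.left).2 ⟨e.left.surjective, he⟩,
      fun _ _ hf => by cases hf; exact ⟨h.left, congrArg (fun g => g.left) w⟩⟩
  exact ⟨⟨A.base, A.P, A.act, A.π, A.cart, hloc, A.φ, A.eqv⟩, Iso.refl _, overId_id _⟩

theorem isStack_etale_of_fppf {𝒳 : AlgSt.Cat S} (h : Stk.IsStack (J S) 𝒳) :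
    Stk.IsStack (Groth.L24.Boot.JE S) 𝒳 :=
  ⟨h.1, fun _ R hR => h.2 R (BigSite.J_mono BigSite.etalePrecoverage_le_fppfPrecoverage S _ hR)⟩

theorem pBase_affine : PBase (IsAffineMor : MorphismProperty (Sp S)) :=
  fun _ _ _ _ _ _ _ _ _ _ _ _ sq h =>
    Groth.L23.isAffineMor_iff.2 (Groth.L23.repWith_of_isPullback sq.flip.flip (Groth.L23.isAffineMor_iff.1 h))

theorem isLocalOnBase_fppf_affine : AlgSp.IsLocalOnBase AlgSp.IsFppfCover (IsAffineMor : MorphismProperty (Sp S)) :=
  fun {_ _} Yi g hY hYi hcov {_} f hX Xi p q hXi sq => Groth.L23.isLocalOnBase_fpqc_affine Yi g hY hYi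
    (Groth.L23.isFpqcCover_of_isFppfCover hY hYi hcov) f hX Xi p q hXi sq

theorem repWith_quotMap_etale [Smooth G.hom] [IsAffineHom G.hom] {P : MorphismProperty (Sp S)}
    (h : AlgSt.RepByAlgSpWith P (AlgSt.spQuotMap Scheme.fppfPrecoverage ((schSp S).obj G) (schAction aX))) :
    AlgSt.RepByAlgSpWith P (BasedFunctor.comp (AlgSt.ofOverCat X) (AlgSt.quotMap Scheme.etalePrecoverage G aX)) :=
  (repWith_postcomp (isEquivOver_etaleToFppf aX) _).1 ((repWith_quotMap_iff isEquivOver_toSpQuot_fppf P).2 h)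

theorem isAlgStack_quotSt_etale [Smooth G.hom] [IsAffineHom G.hom] :
    AlgSt.IsAlgStack Scheme.etalePrecoverage (AlgSt.QuotSt Scheme.etalePrecoverage G aX) ∧
      AlgSt.RepByAlgSpWith (AlgSp.LocP @Smooth)
        (BasedFunctor.comp (AlgSt.ofOverCat X) (AlgSt.quotMap Scheme.etalePrecoverage G aX)) ∧
      AlgSt.RepByAlgSpWith AlgSp.IsSurjectiveMor
        (BasedFunctor.comp (AlgSt.ofOverCat X) (AlgSt.quotMap Scheme.etalePrecoverage G aX)) ∧
      AlgSt.RepByAlgSpWith AlgSp.IsAffineMor
        (BasedFunctor.comp (AlgSt.ofOverCat X) (AlgSt.quotMap Scheme.etalePrecoverage G aX)) := by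
  have h1 := repWith_quotMap_etale aX (spQuotMap_locP (schAction aX) (IsAlgSpace.yon_obj _) (isAlgSpace_schSp G)
    Groth.L23.etLocal_smooth (locP_schSp_hom Groth.L23.etLocal_smooth inferInstance))
  have h2 := repWith_quotMap_etale aX
    (spQuotMap_surjective (schAction aX) (IsAlgSpace.yon_obj _) (isAlgSpace_schSp G))
  have h3 := repWith_quotMap_etale aX (Quot.repByAlgSpWith_trivMap (schAction aX) (IsAlgSpace.yon_obj _)
    (isAlgSpace_schSp G) _ pBase_affine isLocalOnBase_fppf_affine
    (Groth.L23.isAffineMor_iff.2 (Groth.L23.repWith_map (P := @IsAffineHom) (show IsAffineHom G.hom from inferInstance))))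
  exact ⟨isAlgStack_etale_of_atlas
    ((L09.Fib.isStack_iff _ (isEquivOver_etaleToFppf aX)).2 (isStack_etale_of_fppf isStack_quotSt_fppf))
    ⟨X, _, h1, h2⟩, h1, h2, h3⟩

end Groth.L24.Tors
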