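import Groth.Agent.L24.Tors.TorsProp

/-!
A sheaf over a scheme which is fppf locally an algebraic space.
-/

set_option autoImplicit false
set_option backward.isDefEq.respectTransparency false
set_option backward.isDefEq.respectTransparency.types false

universe u

open CategoryTheory CategoryTheory.Limits AlgebraicGeometry AlgSp

noncomputable section

namespace Groth.L24.Tors

variable {S : Scheme.{u}} {Y : Over S} {ι : Type u} {T : ι → Over S} {g : ∀ t, T t ⟶ Y}

/-- Being an algebraic space over a scheme, with a property local on the base, is checked on an fppf covering. -/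
theorem isAlgSpace_and_prop_of_local (hcov : AlgSp.IsFppfCover (fun t => (yon S).obj (T t)) (fun t => (yon S).map (g t)))
    {F : Sp S} (q : F ⟶ (yon S).obj Y) {Z : ι → Sp S} (hZ : ∀ t, IsAlgSpace (Z t)) (m : ∀ t, Z t ⟶ F)
    (p : ∀ t, Z t ⟶ (yon S).obj (T t)) (sq : ∀ t, IsPullback (m t) (p t) q ((yon S).map (g t)))
    (P : MorphismProperty (Sp S)) (hloc : AlgSp.IsLocalOnBase AlgSp.IsFppfCover P) (hP : ∀ t, P (p t)) :
    IsAlgSpace F ∧ P q := by
  have hY := IsAlgSpace.yon_obj Y
  have hfl : ∀ t, RepWith @Flat (m t) ∧ RepWith @LocallyOfFinitePresentation (m t) := fun t => by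
    have hr : Representable ((yon S).map (g t)) := Functor.relativelyRepresentable.map (yon S) (g t)
    exact ⟨Groth.L23.repWith_of_isPullback (sq t).flip
        (Groth.L23.repWith_of_locP Groth.L23.etLocal_flat hY hr (hcov.1 t).1),
      Groth.L23.repWith_of_isPullback (sq t).flip
        (Groth.L23.repWith_of_locP Groth.L23.etLocal_lfp hY hr (hcov.1 t).2)⟩
  have hF : IsAlgSpace F := by
    refine Groth.L24.Boot.isAlgSpace_of_flat_cover hZ m (fun t => ?_) fun x => ?_
    · refine (repBySpWith_hom_iff _ (m t)).2 fun W ξ F' fst snd s => ?_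
      have h1 := Groth.L23.repWith_of_isPullback s (hfl t).1
      exact ⟨Groth.L23.isAlgSpace_of_representable_to (IsAlgSpace.yon_obj W) h1.1,
        Groth.L23.locP_of_repWith Groth.L23.etLocal_flat h1,
        Groth.L23.locP_of_repWith Groth.L23.etLocal_lfp (Groth.L23.repWith_of_isPullback s (hfl t).2)⟩
    · obtain ⟨t, y, hy⟩ := hcov.2 (Points.map q x)
      obtain ⟨z, hz, -⟩ := Groth.L23.exists_of_isPullback (sq t) x y hy.symm
      exact ⟨t, z, hz⟩
  exact ⟨hF, (hloc (fun t => (yon S).obj (T t)) (fun t => (yon S).map (g t)) hY (fun t => IsAlgSpace.yon_obj (T t))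
    hcov q hF Z p m hZ sq).2 hP⟩

end Groth.L24.Tors
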