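import Groth.Prelude.Def_AlgSt6
import Groth.Agent.L23.Basic

/-!
Gluing morphisms of fppf sheaves along a covering sieve of a scheme below the source.
-/

set_option autoImplicit false
set_option backward.isDefEq.respectTransparency.types false

universe u

open CategoryTheory CategoryTheory.Limits AlgebraicGeometry Opposite AlgSp

noncomputable section

namespace Groth.L24.Tors

variable {S : Scheme.{u}} {T : Over S} {Q : Sp S}

theorem hom_ext_sieve {R : Sieve T} (hR : R ∈ J S T) {a b : (yon S).obj T ⟶ Q}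
    (h : ∀ ⦃W : Over S⦄ (g : W ⟶ T), R g → (yon S).map g ≫ a = (yon S).map g ≫ b) : a = b := by
  apply (J S).uliftYonedaEquiv.injective
  refine (((isSheaf_iff_isSheaf_of_type _ _).1 Q.property) R hR).isSeparatedFor.ext fun W g hg => ?_
  rw [GrothendieckTopology.uliftYonedaEquiv_naturality, GrothendieckTopology.uliftYonedaEquiv_naturality]
  exact congrArg _ (h g hg)

theorem exists_glue_sieve {R : Sieve T} (hR : R ∈ J S T)
    (θ : ∀ ⦃W : Over S⦄ (g : W ⟶ T), R g → ((yon S).obj W ⟶ Q))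
    (hθ : ∀ ⦃W W' : Over S⦄ (g : W ⟶ T) (hg : R g) (k : W' ⟶ W),
      (yon S).map k ≫ θ g hg = θ (k ≫ g) (R.downward_closed hg k)) :
    ∃ h : (yon S).obj T ⟶ Q, ∀ ⦃W : Over S⦄ (g : W ⟶ T) (hg : R g), (yon S).map g ≫ h = θ g hg := by
  let x : Presieve.FamilyOfElements Q.obj R.arrows := fun W g hg => (J S).uliftYonedaEquiv (θ g hg)
  have hx : x.Compatible := by
    rw [Presieve.compatible_iff_sieveCompatible]
    intro W W' g k hg
    show (J S).uliftYonedaEquiv (θ (k ≫ g) _) = Q.obj.map k.op ((J S).uliftYonedaEquiv (θ g hg))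
    rw [GrothendieckTopology.uliftYonedaEquiv_naturality]
    exact congrArg _ (hθ g hg k).symm
  obtain ⟨s, hs, -⟩ := ((isSheaf_iff_isSheaf_of_type _ _).1 Q.property) R hR x hx
  refine ⟨(J S).uliftYonedaEquiv.symm s, fun W g hg => (J S).uliftYonedaEquiv.injective ?_⟩
  rw [← GrothendieckTopology.uliftYonedaEquiv_naturality, Equiv.apply_symm_apply]
  exact hs g hg

variable {V : Over S} {P : Sp S} (π : P ⟶ (yon S).obj V) {R : Sieve V}

/-- Maps out of a sheaf over `h_V` agree if they agree on points over a covering sieve. -/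
theorem hom_ext_over (hR : R ∈ J S V) {a b : P ⟶ Q}
    (h : ∀ ⦃W : Over S⦄ (g : W ⟶ V), R g → ∀ p : (yon S).obj W ⟶ P, p ≫ π = (yon S).map g →
      p ≫ a = p ≫ b) : a = b := by
  refine Groth.L23.hom_ext_yon fun T x => ?_
  obtain ⟨g₀, hg₀⟩ := (yon S).map_surjective (x ≫ π)
  refine hom_ext_sieve ((J S).pullback_stable g₀ hR) fun W k hk => ?_
  rw [← Category.assoc, ← Category.assoc]
  exact h (k ≫ g₀) hk _ (by rw [Category.assoc, ← hg₀, Functor.map_comp])

/-- A natural assignment on points over a covering sieve glues to a map. -/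
theorem exists_glue_over (hR : R ∈ J S V)
    (θ : ∀ ⦃W : Over S⦄ (g : W ⟶ V), R g → ∀ p : (yon S).obj W ⟶ P, p ≫ π = (yon S).map g →
      ((yon S).obj W ⟶ Q))
    (hθ : ∀ ⦃W W' : Over S⦄ (g : W ⟶ V) (hg : R g) (p : (yon S).obj W ⟶ P) (hp : p ≫ π = (yon S).map g)
      (k : W' ⟶ W), (yon S).map k ≫ θ g hg p hp =
        θ (k ≫ g) (R.downward_closed hg k) ((yon S).map k ≫ p) (by rw [Category.assoc, hp, Functor.map_comp])) :
    ∃ h : P ⟶ Q, ∀ ⦃W : Over S⦄ (g : W ⟶ V) (hg : R g) (p : (yon S).obj W ⟶ P)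
      (hp : p ≫ π = (yon S).map g), p ≫ h = θ g hg p hp := by
  have hθ' : ∀ ⦃W : Over S⦄ {g g' : W ⟶ V} (hg : R g) (hg' : R g') (p p' : (yon S).obj W ⟶ P)
      (hp : p ≫ π = (yon S).map g) (hp' : p' ≫ π = (yon S).map g'), g = g' → p = p' →
      θ g hg p hp = θ g' hg' p' hp' := by
    intro W g g' hg hg' p p' hp hp' e e'
    subst e e'
    rfl
  have hb : ∀ (T : Over S) (x : (yon S).obj T ⟶ P), ∃ (g₀ : T ⟶ V) (h : (yon S).obj T ⟶ Q),
      (yon S).map g₀ = x ≫ π ∧ ∀ ⦃W : Over S⦄ (k : W ⟶ T) (hk : R (k ≫ g₀))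
        (hp : ((yon S).map k ≫ x) ≫ π = (yon S).map (k ≫ g₀)),
          (yon S).map k ≫ h = θ (k ≫ g₀) hk ((yon S).map k ≫ x) hp := fun T x => by
    obtain ⟨g₀, hg₀⟩ := (yon S).map_surjective (x ≫ π)
    have hw : ∀ ⦃W : Over S⦄ (k : W ⟶ T), ((yon S).map k ≫ x) ≫ π = (yon S).map (k ≫ g₀) := fun W k => by
      rw [Category.assoc, ← hg₀, Functor.map_comp]
    obtain ⟨h, hh⟩ := exists_glue_sieve ((J S).pullback_stable g₀ hR)
      (fun W k hk => θ (k ≫ g₀) hk ((yon S).map k ≫ x) (hw k)) fun W W' k hk l => by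
        rw [hθ]
        exact hθ' _ _ _ _ _ _ (Category.assoc l k g₀).symm (by rw [Functor.map_comp, Category.assoc])
    exact ⟨g₀, h, hg₀, fun W k hk hp => hh k hk⟩
  choose g₀ h hg₀ hh using hb
  have nat : ∀ {T T' : Over S} (l : T' ⟶ T) (x : (yon S).obj T ⟶ P),
      h T' ((yon S).map l ≫ x) = (yon S).map l ≫ h T x := fun {T T'} l x => by
    have e : g₀ T' ((yon S).map l ≫ x) = l ≫ g₀ T x := (yon S).map_injective (by
      rw [hg₀, Functor.map_comp, hg₀, Category.assoc])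
    refine hom_ext_sieve ((J S).pullback_stable (g₀ T' ((yon S).map l ≫ x)) hR) fun W k hk => ?_
    have hk' : R (k ≫ g₀ T' ((yon S).map l ≫ x)) := hk
    have hkl : R ((k ≫ l) ≫ g₀ T x) := by rw [Category.assoc, ← e]; exact hk'
    have w1 : ((yon S).map k ≫ (yon S).map l ≫ x) ≫ π = (yon S).map (k ≫ g₀ T' ((yon S).map l ≫ x)) := by
      rw [Category.assoc, ← hg₀, Functor.map_comp]
    have w2 : ((yon S).map (k ≫ l) ≫ x) ≫ π = (yon S).map ((k ≫ l) ≫ g₀ T x) := by
      rw [Category.assoc, ← hg₀, ← Functor.map_comp]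
    have h2 : (yon S).map k ≫ (yon S).map l ≫ h T x = θ ((k ≫ l) ≫ g₀ T x) hkl ((yon S).map (k ≫ l) ≫ x) w2 := by
      rw [← Functor.map_comp_assoc]; exact hh T x (k ≫ l) hkl w2
    exact (hh T' _ k hk' w1).trans
      ((hθ' _ _ _ _ _ _ (by rw [e, Category.assoc]) (by rw [Functor.map_comp, Category.assoc])).trans h2.symm)
  let m : P ⟶ Q := ObjectProperty.homMk
    { app := fun T => ↾fun z => (J S).uliftYonedaEquiv (h T.unop ((J S).uliftYonedaEquiv.symm z))
      naturality := fun T T' l => by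
        ext z
        show (J S).uliftYonedaEquiv (h T'.unop ((J S).uliftYonedaEquiv.symm (P.obj.map l z))) =
          Q.obj.map l ((J S).uliftYonedaEquiv (h T.unop ((J S).uliftYonedaEquiv.symm z)))
        rw [GrothendieckTopology.uliftYonedaEquiv_naturality', GrothendieckTopology.uliftYonedaEquiv_symm_map]
        exact congrArg _ (nat l.unop _) }
  refine ⟨m, fun W g hg p hp => (J S).uliftYonedaEquiv.injective ?_⟩
  rw [GrothendieckTopology.uliftYonedaEquiv_comp]
  show (J S).uliftYonedaEquiv (h W ((J S).uliftYonedaEquiv.symm ((J S).uliftYonedaEquiv p))) = _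
  rw [Equiv.symm_apply_apply]
  congr 1
  have e : g₀ W p = g := (yon S).map_injective ((hg₀ W p).trans hp)
  have h1 := hh W p (𝟙 W) (by rw [Category.id_comp, e]; exact hg)
    (by rw [Category.assoc, ← hg₀, Functor.map_comp])
  rw [show (yon S).map (𝟙 W) ≫ h W p = h W p by rw [(yon S).map_id, Category.id_comp]] at h1
  rw [h1]
  exact hθ' _ _ _ _ _ _ (by rw [Category.id_comp, e]) (by rw [(yon S).map_id, Category.id_comp])

end Groth.L24.Tors
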