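import Groth.Prelude.Def_AlgSt6
import Groth.Prelude.Def_AlgSpRep
import Groth.Agent.L24.Boot.SpaceCofan
import Groth.Agent.L23.Basic
import Groth.Agent.L23.LocP
import Groth.Agent.L23.EqvRel

/-!
Torsors given as fppf sheaves under a group algebraic space are algebraic spaces.
-/

set_option autoImplicit false
set_option backward.isDefEq.respectTransparency false
set_option backward.isDefEq.respectTransparency.types false

universe u

open CategoryTheory CategoryTheory.Limits MonoidalCategory CartesianMonoidalCategory AlgebraicGeometry AlgSp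

noncomputable section

namespace Groth.L24.Tors

variable {S : Scheme.{u}} {B : Sp S}

theorem isPullback_tensor_left (Y Z : Over B) :
    IsPullback (fst Y Z).left (snd Y Z).left Y.hom Z.hom := by
  have h := (AlgSt.isPullback_fst_snd' Y Z).map (Over.forget B)
  have e : ∀ W : Over B, (toUnit W).left = W.hom := fun W => by
    have := Over.w (toUnit W)
    exact (Category.comp_id _).symm.trans this
  rw [← e Y, ← e Z]
  exact h

variable {K : Precoverage Scheme.{u}} {G : Over B} [GrpObj G] {X : Over B} {aX : AlgSp.GAction G X}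
  (A : AlgSt.SpQuotObj K G aX)

/-- A torsor becomes trivial over any scheme mapping to it. -/
theorem isPullback_of_section {T' : Over S} (f : T' ⟶ A.base) (s : (yon S).obj T' ⟶ A.P.left)
    (hs : s ≫ A.π.left = (yon S).map f) :
    ∃ m : (G ⊗ Over.mk ((yon S).map f ≫ A.b)).left ⟶ A.P.left,
      IsPullback m (snd G (Over.mk ((yon S).map f ≫ A.b))).left A.π.left ((yon S).map f) := by
  have w : s ≫ A.P.hom = (yon S).map f ≫ A.b := by
    rw [← hs, Category.assoc]; exact congrArg (s ≫ ·) (Over.w A.π).symm
  let sO : Over.mk ((yon S).map f ≫ A.b) ⟶ A.P := Over.homMk s w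
  refine ⟨((G ◁ sO) ≫ A.act.act).left, ?_⟩
  have h := ((AlgSt.isPullback_whiskerLeft' (G := G) sO).paste_horiz A.cart).map (Over.forget B)
  have e : (sO ≫ A.π).left = (yon S).map f := hs
  exact (congrArg (IsPullback _ _ _) e).mp h

end Groth.L24.Tors

namespace Groth.L24.Tors

variable {S : Scheme.{u}} {B : Sp S} {G : Over B} [GrpObj G] {X : Over B} {aX : AlgSp.GAction G X}

set_option maxHeartbeats 800000 in
/-- Sheaf torsors under a group algebraic space are algebraic spaces. -/
theorem isAlgSpace_torsor (hB : IsAlgSpace B) (hG : IsAlgSpace G.left)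
    (A : AlgSt.SpQuotObj Scheme.fppfPrecoverage G aX) : IsAlgSpace A.P.left := by
  obtain ⟨R, hR, hsec⟩ := A.loc
  obtain ⟨ι, Y, f, rfl⟩ := R.exists_eq_ofArrows
  obtain ⟨hsurj, hprop⟩ := (Scheme.ofArrows_mem_precoverage_iff _).1 hR
  choose i hi using fun t : A.base.left => hsurj t
  let T' : A.base.left → Over S := fun t => Over.mk (f (i t) ≫ A.base.hom)
  let g : ∀ t, T' t ⟶ A.base := fun t => Over.homMk (f (i t))
  have htriv : ∀ t, ∃ m : (G ⊗ Over.mk ((yon S).map (g t) ≫ A.b)).left ⟶ A.P.left,
      IsPullback m (snd G (Over.mk ((yon S).map (g t) ≫ A.b))).left A.π.left ((yon S).map (g t)) := fun t => by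
    obtain ⟨s, hs⟩ := hsec (f (i t)) (.mk (i t))
    exact isPullback_of_section A (g t) s hs
  choose m hm using htriv
  let Gt : A.base.left → Sp S := fun t => (G ⊗ Over.mk ((yon S).map (g t) ≫ A.b)).left
  have hGt : ∀ t, IsAlgSpace (Gt t) := fun t =>
    Groth.L23.isAlgSpace_of_isPullback hB.diag hG (IsAlgSpace.yon_obj (T' t))
      (isPullback_tensor_left G (Over.mk ((yon S).map (g t) ≫ A.b)))
  have hf : ∀ t, RepWith @Flat (m t) := fun t => Groth.L23.repWith_of_isPullback (hm t).flip
    (Groth.L23.repWith_map (hprop (i t)).1)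
  have hp : ∀ t, RepWith @LocallyOfFinitePresentation (m t) := fun t =>
    Groth.L23.repWith_of_isPullback (hm t).flip (Groth.L23.repWith_map (hprop (i t)).2)
  refine Groth.L24.Boot.isAlgSpace_of_flat_cover hGt m (fun t => ?_) fun y => ?_
  · refine (repBySpWith_hom_iff _ (m t)).2 fun W ξ F' fst snd sq => ?_
    have h1 := Groth.L23.repWith_of_isPullback sq (hf t)
    exact ⟨Groth.L23.isAlgSpace_of_representable_to (IsAlgSpace.yon_obj W) h1.1,
      Groth.L23.locP_of_repWith Groth.L23.etLocal_flat h1,
      Groth.L23.locP_of_repWith Groth.L23.etLocal_lfp (Groth.L23.repWith_of_isPullback sq (hp t))⟩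
  · let t : A.base.left := (Points.schemeEquiv A.base).symm (Points.map A.π.left y)
    obtain ⟨x, hx⟩ := hi t
    obtain ⟨z, hz, -⟩ := Groth.L23.exists_of_isPullback (hm t) y (Points.ofScheme (T' t) x) (by
      rw [← Points.ofPt_eq_map_ofScheme, Groth.L23.ofPt_map]
      show _ = Points.ofScheme A.base ((g t).left x)
      rw [show (g t).left x = t from hx]
      exact ((Points.schemeEquiv A.base).apply_symm_apply _).symm)
    exact ⟨t, z, hz⟩

end Groth.L24.Tors
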