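import Groth.Agent.L24.Tors.HomDescent
import Groth.Agent.L24.Tors.Basic

/-!
Morphisms out of a torsor with a section are points of the target.
-/

set_option autoImplicit false
set_option backward.isDefEq.respectTransparency false
set_option backward.isDefEq.respectTransparency.types false

universe u

open CategoryTheory CategoryTheory.Limits MonoidalCategory CartesianMonoidalCategory MonObj AlgebraicGeometry AlgSp

noncomputable section

namespace Groth.L24.Tors

variable {S : Scheme.{u}} {B : Sp S} {G : Over B} [GrpObj G]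

/-- The orbit map of a point. -/
def orbit {P : Over B} (a : AlgSp.GAction G P) {T : Over B} (v : T ⟶ P) : G ⊗ T ⟶ P := (G ◁ v) ≫ a.act

theorem leftMul_orbit {P : Over B} (a : AlgSp.GAction G P) {T : Over B} (v : T ⟶ P) :
    (G ◁ orbit a v) ≫ a.act = (AlgSt.spLeftMul G T).act ≫ orbit a v := by
  have hμ : fst (G ⊗ G) P ≫ μ[G] = (fst _ _ ≫ fst G G) * (fst _ _ ≫ snd G G) := by
    rw [Hom.mul_def, ← comp_lift, lift_fst_snd, Category.comp_id]
  have h : (AlgSt.spLeftMul G T).act ≫ (G ◁ v) = (G ◁ (G ◁ v)) ≫ (α_ G G P).inv ≫ (μ[G] ▷ P) := by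
    apply CartesianMonoidalCategory.hom_ext
    · simp only [AlgSt.spLeftMul, Category.assoc, lift_fst, comp_lift, comp_mul, whiskerLeft_fst, whiskerLeft_snd,
        whiskerLeft_snd_assoc, whiskerLeft_fst_assoc, whiskerRight_fst, associator_inv_fst_fst,
        associator_inv_fst_snd, hμ]
    · simp only [AlgSt.spLeftMul, Category.assoc, lift_snd, whiskerLeft_snd, whiskerLeft_snd_assoc,
        whiskerRight_snd, associator_inv_snd, lift_snd_assoc]
  have hm : (G ◁ a.act) ≫ a.act = (α_ G G P).inv ≫ (μ[G] ▷ P) ≫ a.act := by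
    rw [a.mul_act, Iso.inv_hom_id_assoc]
  rw [orbit, MonoidalCategory.whiskerLeft_comp, Category.assoc, hm, ← Category.assoc (AlgSt.spLeftMul G T).act, h]
  simp only [Category.assoc]

variable {K : Precoverage Scheme.{u}} {X : Over B} {aX : AlgSp.GAction G X} {C A : AlgSt.SpQuotObj K G aX}

/-- A point of the torsor over a morphism of base schemes, as a morphism over the base sheaf. -/
def ptHom (k : C.base ⟶ A.base) (wb : (yon S).map k ≫ A.b = C.b) (v : (yon S).obj C.base ⟶ A.P.left)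
    (hv : v ≫ A.π.left = (yon S).map k) : Over.mk C.b ⟶ A.P :=
  Over.homMk v (by
    show v ≫ A.P.hom = C.b
    rw [← wb, ← hv, Category.assoc]
    exact congrArg (v ≫ ·) (Over.w A.π).symm)

theorem ptHom_π (k : C.base ⟶ A.base) (wb : (yon S).map k ≫ A.b = C.b) (v : (yon S).obj C.base ⟶ A.P.left)
    (hv : v ≫ A.π.left = (yon S).map k) : ptHom k wb v hv ≫ A.π = AlgSt.bHom k wb :=
  Over.OverMorphism.ext hv

theorem orbit_π {A : AlgSt.SpQuotObj K G aX} {T : Over B} (v : T ⟶ A.P) :
    orbit A.act v ≫ A.π = snd G T ≫ v ≫ A.π := by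
  rw [orbit, Category.assoc, A.cart.w, whiskerLeft_snd_assoc]

theorem isIso_orbit_section (σ : Over.mk C.b ⟶ C.P) (hσ : σ ≫ C.π = 𝟙 _) : IsIso (orbit C.act σ) := by
  have h := (AlgSt.isPullback_whiskerLeft' (G := G) σ).paste_horiz C.cart
  rw [hσ] at h
  exact h.isIso_fst_of_isIso

/-- A morphism is determined by the image of a section. -/
theorem hom_eq_of_section (σ : (yon S).obj C.base ⟶ C.P.left) (hσ : σ ≫ C.π.left = 𝟙 _) {h h' : C ⟶ A}
    (hb : h.base = h'.base) (hh : σ ≫ h.top.left = σ ≫ h'.top.left) : h = h' := by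
  have hσ' : σ ≫ C.π.left = (yon S).map (𝟙 C.base) := by rw [hσ, (yon S).map_id]
  let σO := ptHom (C := C) (A := C) (𝟙 _) (by rw [(yon S).map_id, Category.id_comp]) σ hσ'
  have hσO : σO ≫ C.π = 𝟙 _ := (ptHom_π _ _ _ _).trans (AlgSt.bHom_id _)
  have := isIso_orbit_section σO hσO
  refine AlgSt.SpQuotObj.hom_ext hb ?_
  rw [← cancel_epi (orbit C.act σO)]
  simp only [orbit, Category.assoc, h.eqv, h'.eqv, ← MonoidalCategory.whiskerLeft_comp_assoc]
  rw [show σO ≫ h.top = σO ≫ h'.top from Over.OverMorphism.ext hh]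

/-- A point of the target gives a morphism out of a torsor with a section. -/
theorem exists_hom_of_point' (σ : (yon S).obj C.base ⟶ C.P.left)
    (hσ : σ ≫ C.π.left = 𝟙 _) (k : C.base ⟶ A.base) (wb : (yon S).map k ≫ A.b = C.b)
    (v : (yon S).obj C.base ⟶ A.P.left) (hv : v ≫ A.π.left = (yon S).map k)
    (hvφ : v ≫ A.φ.left = σ ≫ C.φ.left) :
    ∃ h : C ⟶ A, h.base = k ∧ σ ≫ h.top.left = v := by
  have hσ' : σ ≫ C.π.left = (yon S).map (𝟙 C.base) := by rw [hσ, (yon S).map_id]
  let σO := ptHom (C := C) (A := C) (𝟙 _) (by rw [(yon S).map_id, Category.id_comp]) σ hσ'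
  let vO := ptHom k wb v hv
  have hσO : σO ≫ C.π = 𝟙 _ := (ptHom_π _ _ _ _).trans (AlgSt.bHom_id _)
  have := isIso_orbit_section σO hσO
  let top : C.P ⟶ A.P := inv (orbit C.act σO) ≫ orbit A.act vO
  have htop : orbit C.act σO ≫ top = orbit A.act vO := IsIso.hom_inv_id_assoc _ _
  have eqv : C.act.act ≫ top = (G ◁ top) ≫ A.act.act := by
    rw [← cancel_epi (G ◁ orbit C.act σO), ← Category.assoc, leftMul_orbit, Category.assoc, htop,
      ← MonoidalCategory.whiskerLeft_comp_assoc, htop, leftMul_orbit]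
  have sq : IsPullback (orbit A.act vO) (snd G _) A.π (AlgSt.bHom k wb) := by
    have h := (AlgSt.isPullback_whiskerLeft' (G := G) vO).paste_horiz A.cart
    rw [ptHom_π] at h
    exact h
  have sq' : IsPullback top C.π A.π (AlgSt.bHom k wb) := by
    refine sq.of_iso (asIso (orbit C.act σO)) (Iso.refl _) (Iso.refl _) (Iso.refl _) ?_ ?_ (by simp) (by simp)
    · simp [htop]
    · rw [asIso_hom, Iso.refl_hom, Category.comp_id, orbit_π, hσO, Category.comp_id]
  have hφ : top ≫ A.φ = C.φ := by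
    rw [← cancel_epi (orbit C.act σO), reassoc_of% htop]
    simp only [orbit, Category.assoc, A.eqv, C.eqv, ← MonoidalCategory.whiskerLeft_comp_assoc]
    rw [show vO ≫ A.φ = σO ≫ C.φ from Over.OverMorphism.ext hvφ]
  refine ⟨⟨k, wb, top, eqv, sq', hφ⟩, rfl, ?_⟩
  let e : Over.mk C.b ⟶ G ⊗ Over.mk C.b := lift (toUnit _ ≫ η[G]) (𝟙 _)
  have he : ∀ {P : Over B} (a : AlgSp.GAction G P) (w : Over.mk C.b ⟶ P), e ≫ orbit a w = w := by
    intro P a w
    have h1 := a.one_act
    have h2 : e ≫ (G ◁ w) = w ≫ (λ_ P).inv ≫ (η[G] ▷ P) := by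
      apply CartesianMonoidalCategory.hom_ext
      · simp [e]
      · simp [e]
    rw [orbit, ← Category.assoc, h2, Category.assoc, Category.assoc, h1, Iso.inv_hom_id, Category.comp_id]
  show (σO ≫ top).left = vO.left
  rw [← he C.act σO, Category.assoc, htop, he A.act vO]

/-- A point of the target gives a morphism out of a torsor with a section. -/
theorem exists_hom_of_point (toTerm : ∀ Y : Over B, Subsingleton (Y ⟶ X)) (σ : (yon S).obj C.base ⟶ C.P.left)
    (hσ : σ ≫ C.π.left = 𝟙 _) (k : C.base ⟶ A.base) (wb : (yon S).map k ≫ A.b = C.b)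
    (v : (yon S).obj C.base ⟶ A.P.left) (hv : v ≫ A.π.left = (yon S).map k) :
    ∃ h : C ⟶ A, h.base = k ∧ σ ≫ h.top.left = v := by
  let σO := ptHom (C := C) (A := C) (𝟙 _) (by rw [(yon S).map_id, Category.id_comp]) σ
    (by rw [hσ, (yon S).map_id])
  refine exists_hom_of_point' σ hσ k wb v hv ?_
  exact congrArg (fun z => z.left) (@Subsingleton.elim _ (toTerm _) (ptHom k wb v hv ≫ A.φ) (σO ≫ C.φ))

end Groth.L24.Tors
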