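import Groth.Agent.L24.Tors.SchemeTors
import Groth.Agent.L24.Tors.QuotProps

/-!
The canonical map to the quotient stack of schemes.
-/

set_option autoImplicit false
set_option backward.isDefEq.respectTransparency false
set_option backward.isDefEq.respectTransparency.types false

universe u

open CategoryTheory CategoryTheory.Limits MonoidalCategory CartesianMonoidalCategory MonObj AlgebraicGeometry AlgSp Opposite

noncomputable section

namespace Groth.L24.Tors

open Groth.L24.St

variable {S : Scheme.{u}} {K : Precoverage Scheme.{u}} [K.HasIsos] {G : Over S} [GrpObj G] {X : Over S}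
  {aX : AlgGrp.Action G X}

theorem secYon_sch (a : (AlgSt.ofSch X).obj) : AlgSt.secYon (X := (schSp S).obj X) a = (yon S).map a.sec.down := by
  apply (GrothendieckTopology.uliftYonedaEquiv.{u + 1} (J S) (X := a.base) (F := (yon S).obj X)).injective
  exact (Equiv.apply_symm_apply _ _).trans (Eq.symm (GrothendieckTopology.uliftYonedaEquiv_uliftYoneda_map
    (J := J S) (f := a.sec.down)))

theorem schSp_map_mul {Z : Over S} (f g : Z ⟶ G) :
    (schSp S).map (f * g) = (schSp S).map f * (schSp S).map g := by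
  rw [Hom.mul_def, Hom.mul_def, Functor.map_comp, ← Functor.Monoidal.lift_μ, Category.assoc]
  rfl

/-- The comparison of trivial torsors. -/
def trivTop (G : Over S) {T : Over S} {T' : Over (one S)} (j : (schSp S).obj T ⟶ T') :
    (schSp S).obj (G ⊗ T) ⟶ (schSp S).obj G ⊗ T' :=
  Functor.OplaxMonoidal.δ (schSp S) G T ≫ ((schSp S).obj G ◁ j)

omit [K.HasIsos] in
theorem trivTop_eqv {T : Over S} {T' : Over (one S)} (j : (schSp S).obj T ⟶ T') :
    (schAction (AlgSt.leftMul G T)).act ≫ trivTop G j =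
      ((schSp S).obj G ◁ trivTop G j) ≫ (AlgSt.spLeftMul ((schSp S).obj G) T').act := by
  have hf : trivTop G j ≫ fst _ _ = (schSp S).map (fst G T) := by simp [trivTop]
  have hs : trivTop G j ≫ snd _ _ = (schSp S).map (snd G T) ≫ j := by simp [trivTop]
  apply CartesianMonoidalCategory.hom_ext
  · rw [Category.assoc, hf, schAction_act, Category.assoc, ← Functor.map_comp]
    simp only [AlgSt.leftMul, AlgSt.spLeftMul, Category.assoc, lift_fst, schSp_map_mul, comp_mul, Functor.map_comp,
      Functor.Monoidal.μ_fst, Functor.Monoidal.μ_snd_assoc, whiskerLeft_fst, whiskerLeft_snd_assoc, hf]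
  · rw [Category.assoc, hs, schAction_act, Category.assoc, ← Functor.map_comp_assoc]
    simp only [AlgSt.leftMul, AlgSt.spLeftMul, Category.assoc, lift_snd, Functor.map_comp,
      Functor.Monoidal.μ_snd_assoc, whiskerLeft_snd_assoc, hs]

omit [K.HasIsos] in
theorem trivTop_φ {T : Over S} {T' : Over (one S)} (j : (schSp S).obj T ⟶ T') (x : T ⟶ X)
    (x' : T' ⟶ (schSp S).obj X) (h : j ≫ x' = (schSp S).map x) :
    trivTop G j ≫ ((schSp S).obj G ◁ x') ≫ (schAction aX).act = (schSp S).map ((G ◁ x) ≫ aX.act) := by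
  rw [trivTop, Category.assoc, ← MonoidalCategory.whiskerLeft_comp_assoc, h, schAction_act,
    Functor.LaxMonoidal.μ_natural_right_assoc, Functor.map_comp, Functor.Monoidal.δ_μ_assoc]

/-- The identity of the base. -/
def baseJ (a : (AlgSt.ofSch X).obj) :
    (schSp S).obj a.base ⟶ Over.mk (AlgSt.secYon (X := (schSp S).obj X) a ≫ ((schSp S).obj X).hom) :=
  Over.homMk (𝟙 _) (hom_one_subsingleton _ _)

instance isIso_baseJ (a : (AlgSt.ofSch X).obj) : IsIso (baseJ a) := by
  have : IsIso ((Over.forget (one S)).map (baseJ a)) := show IsIso (𝟙 ((yon S).obj a.base)) from IsIso.id _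
  exact isIso_of_reflects_iso _ (Over.forget (one S))

variable (K aX)

set_option maxHeartbeats 1600000 in
/-- The component of the comparison. -/
def quotComp (a : (AlgSt.ofSch X).obj) :
    (toSpQuot K G aX).obj ((AlgSt.quotMap K G aX).obj a) ⟶
      (AlgSt.spQuotMap K ((schSp S).obj G) (schAction aX)).obj a where
  base := 𝟙 a.base
  wb := hom_one_subsingleton _ _
  top := trivTop G (baseJ a)
  eqv := trivTop_eqv (baseJ a)
  cart := by
    refine @IsPullback.of_horiz_isIso _ _ _ _ _ _ _ _ _ _ ?_ (isIso_bHom_id _) ⟨?_⟩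
    · show IsIso (Functor.OplaxMonoidal.δ (schSp S) G a.base ≫ ((schSp S).obj G ◁ baseJ a))
      infer_instance
    show trivTop G (baseJ a) ≫ snd _ _ = (schSp S).map (snd G a.base) ≫ _
    refine (show trivTop G (baseJ a) ≫ snd _ _ = (schSp S).map (snd G a.base) ≫ baseJ a by simp [trivTop]).trans ?_
    congr 1
  wφ := trivTop_φ (baseJ a) a.sec.down (AlgSt.secOver (X := (schSp S).obj X) a)
    (Over.OverMorphism.ext ((Category.id_comp _).trans (secYon_sch a)))

theorem isIso_quotComp (a : (AlgSt.ofSch X).obj) : IsIso (quotComp K aX a) :=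
  have : IsIso (quotComp K aX a).base := IsIso.id _
  isIso_of_base _

theorem quotComp_natural_top {a b : (AlgSt.ofSch X).obj} (φ : a ⟶ b) :
    ((toSpQuot K G aX).map ((AlgSt.quotMap K G aX).map φ) ≫ quotComp K aX b).top =
      (quotComp K aX a ≫ (AlgSt.spQuotMap K ((schSp S).obj G) (schAction aX)).map φ).top := by
  show (schSp S).map (G ◁ φ.hom) ≫ trivTop G (baseJ b) = trivTop G (baseJ a) ≫ (_ ◁ _)
  rw [trivTop, trivTop, ← Functor.OplaxMonoidal.δ_natural_right_assoc, Category.assoc,
    ← MonoidalCategory.whiskerLeft_comp, ← MonoidalCategory.whiskerLeft_comp]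
  exact congrArg (fun t => Functor.OplaxMonoidal.δ (schSp S) G a.base ≫ ((schSp S).obj G ◁ t))
    (Over.OverMorphism.ext ((Category.comp_id _).trans (Category.id_comp _).symm))

theorem quotComp_natural_base {a b : (AlgSt.ofSch X).obj} (φ : a ⟶ b) :
    ((toSpQuot K G aX).map ((AlgSt.quotMap K G aX).map φ) ≫ quotComp K aX b).base =
      (quotComp K aX a ≫ (AlgSt.spQuotMap K ((schSp S).obj G) (schAction aX)).map φ).base := by
  rw [AlgSt.SpQuotObj.comp_base, AlgSt.SpQuotObj.comp_base]
  show φ.hom ≫ 𝟙 b.base = 𝟙 a.base ≫ φ.hom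
  rw [Category.comp_id, Category.id_comp]

theorem overId_quotComp (a : (AlgSt.ofSch X).obj) :
    OverId (𝒳 := AlgSt.SpQuotSt K _ _) (quotComp K aX a) :=
  OverId.of_eq (𝒳 := AlgSt.SpQuotSt K _ _) rfl rfl

theorem nonempty_quotMap_iso :
    Nonempty (BasedFunctor.comp (AlgSt.quotMap K G aX) (toSpQuot K G aX) ≅
      AlgSt.spQuotMap K ((schSp S).obj G) (schAction aX)) :=
  ⟨mkIso2 (fun a => @asIso _ _ _ _ (quotComp K aX a) (isIso_quotComp K aX a))
    (fun _ _ φ => AlgSt.SpQuotObj.hom_ext (quotComp_natural_base K aX φ) (quotComp_natural_top K aX φ))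
    fun a => overId_quotComp K aX a⟩

variable {K aX}

theorem repWith_quotMap_iff (hE : FibCat.IsEquivOver (toSpQuot K G aX)) (P : MorphismProperty (Sp S)) :
    AlgSt.RepByAlgSpWith P (BasedFunctor.comp (AlgSt.ofOverCat X) (AlgSt.quotMap K G aX)) ↔
      AlgSt.RepByAlgSpWith P (AlgSt.spQuotMap K ((schSp S).obj G) (schAction aX)) := by
  obtain ⟨i⟩ := nonempty_quotMap_iso K aX
  rw [← repWith_congr i, repWith_postcomp hE]
  exact repWith_precomp (ofOverCat_isEquivOver X) _

theorem locP_schSp_hom {Q : MorphismProperty Scheme.{u}} (hQ : Groth.L23.EtLocal Q) [Q.IsStableUnderBaseChange]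
    (h : Q G.hom) : LocP Q ((schSp S).obj G).hom :=
  Groth.L23.locP_of_repWith hQ (Groth.L23.repWith_map (P := Q) (show Q G.hom from h))

end Groth.L24.Tors
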