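import Groth.Agent.L24.Tors.SchemeFun
import Groth.Agent.L23.FppfImmersion
import Groth.Agent.L24.Tors.StackProof

/-!
The quotient stack of schemes is the quotient stack of the associated sheaves.
-/

set_option autoImplicit false
set_option backward.isDefEq.respectTransparency false
set_option backward.isDefEq.respectTransparency.types false

universe u

open CategoryTheory CategoryTheory.Limits MonoidalCategory CartesianMonoidalCategory MonObj AlgebraicGeometry AlgSp Opposite

noncomputable section

namespace Groth.L24.Tors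

open Groth.L24.St

variable {S : Scheme.{u}} {K : Precoverage Scheme.{u}} {G : Over S} [GrpObj G] {X : Over S} {aX : AlgGrp.Action G X}

theorem schAction_act {Y : Over S} (a : AlgGrp.Action G Y) :
    (schAction a).act = Functor.LaxMonoidal.μ (schSp S) G Y ≫ (schSp S).map a.act := rfl

theorem schAction_eqv {Y Z : Over S} (a : AlgGrp.Action G Y) (b : AlgGrp.Action G Z) (f : Y ⟶ Z) :
    (schAction a).act ≫ (schSp S).map f = ((schSp S).obj G ◁ (schSp S).map f) ≫ (schAction b).act ↔
      a.act ≫ f = (G ◁ f) ≫ b.act := by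
  rw [schAction_act, schAction_act, Category.assoc, Functor.LaxMonoidal.μ_natural_right_assoc,
    ← Functor.map_comp, ← Functor.map_comp, cancel_epi]
  exact ⟨fun h => (schSp S).map_injective h, fun h => congrArg _ h⟩

theorem schAction_cart {Y T : Over S} (a : AlgGrp.Action G Y) (π : Y ⟶ T) :
    IsPullback (schAction a).act (snd ((schSp S).obj G) ((schSp S).obj Y)) ((schSp S).map π) ((schSp S).map π) ↔
      IsPullback a.act (snd G Y) π π := by
  refine ⟨fun h => IsPullback.of_map (schSp S) (h.w |> fun w => ?_) ?_, fun h => ?_⟩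
  · rw [schAction_act, Category.assoc, ← Functor.map_comp, ← Functor.Monoidal.μ_snd, Category.assoc,
      ← Functor.map_comp, cancel_epi] at w
    exact (schSp S).map_injective w
  · refine h.of_iso (asIso (Functor.LaxMonoidal.μ (schSp S) G Y)) (Iso.refl _) (Iso.refl _) (Iso.refl _) ?_ ?_
      (by simp) (by simp)
    · simp [schAction_act]
    · simp
  · refine (h.map (schSp S)).of_iso (asIso (Functor.LaxMonoidal.μ (schSp S) G Y)).symm (Iso.refl _) (Iso.refl _)
      (Iso.refl _) ?_ ?_ (by simp) (by simp)
    · simp [schAction_act]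
    · simp

theorem hasSecLoc_iff {P T : Over S} (π : P ⟶ T) :
    AlgSt.HasSecLoc K ((yon S).map π) ↔ NonAbH1.IsLocallyTrivialFor K (Over.mk π.left : Over T.left) := by
  constructor
  · rintro ⟨R, hR, h⟩
    refine ⟨R, hR, fun T' f hf => ?_⟩
    obtain ⟨s, hs⟩ := h f hf
    obtain ⟨s, rfl⟩ := (yon S).map_surjective s
    rw [← Functor.map_comp] at hs
    exact ⟨s.left, congrArg (fun z => z.left) ((yon S).map_injective hs)⟩
  · rintro ⟨R, hR, h⟩
    refine ⟨R, hR, fun T' f hf => ?_⟩
    obtain ⟨s, hs⟩ := h f hf
    refine ⟨(yon S).map (Over.homMk (U := Over.mk (f ≫ T.hom)) (V := P) s (by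
      show s ≫ P.hom = f ≫ T.hom
      rw [← hs, Category.assoc]
      exact congrArg (s ≫ ·) (Over.w π).symm)), ?_⟩
    rw [← Functor.map_comp]
    congr 1
    exact Over.OverMorphism.ext hs

variable (K G aX)

/-- The comparison from scheme torsors to sheaf torsors. -/
def toSpQuot : AlgSt.QuotSt K G aX ⥤ᵇ AlgSt.SpQuotSt K ((schSp S).obj G) (schAction aX) where
  toFunctor :=
    { obj := fun A =>
        { base := A.base
          b := toOne A.base
          P := (schSp S).obj A.P
          act := schAction A.act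
          π := (schSp S).map A.π
          cart := (schAction_cart A.act A.π).2 A.cart
          loc := (hasSecLoc_iff A.π).2 A.loc
          φ := (schSp S).map A.φ
          eqv := (schAction_eqv A.act aX A.φ).2 A.eqv }
      map := fun {A A'} h =>
        { base := h.base
          wb := hom_one_subsingleton _ _
          top := (schSp S).map h.top
          eqv := (schAction_eqv A.act A'.act h.top).2 h.eqv
          cart := h.cart.map (schSp S)
          wφ := by rw [← Functor.map_comp, h.wφ] }
      map_id := fun A => AlgSt.SpQuotObj.hom_ext rfl ((schSp S).map_id _)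
      map_comp := fun f g => AlgSt.SpQuotObj.hom_ext rfl ((schSp S).map_comp _ _) }
  w := rfl

theorem faithful_toSpQuot : (toSpQuot K G aX).toFunctor.Faithful := ⟨fun {A A' f g} h =>
  AlgSt.QuotObj.hom_ext (congrArg (fun z => z.base) h) ((schSp S).map_injective (congrArg (fun z => z.top) h))⟩

theorem full_toSpQuot : (toSpQuot K G aX).toFunctor.Full := ⟨fun {A A'} h => by
  obtain ⟨t, ht⟩ := (schSp S).map_surjective h.top
  have he := h.eqv
  have hc := h.cart
  have hw := h.wφ
  rw [← ht] at he hc hw
  refine ⟨⟨h.base, t, (schAction_eqv A.act A'.act t).1 he, IsPullback.of_map (schSp S) ?_ hc,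
    (schSp S).map_injective ((Functor.map_comp _ _ _).trans hw)⟩, AlgSt.SpQuotObj.hom_ext rfl ht⟩
  exact (schSp S).map_injective (by rw [Functor.map_comp, Functor.map_comp]; exact hc.w)⟩

variable {K G aX}

theorem isIso_bHom_id {B : Sp S} {T : Over S} {b b' : (yon S).obj T ⟶ B} (w : (yon S).map (𝟙 T) ≫ b' = b) :
    IsIso (AlgSt.bHom (𝟙 T) w) := by
  have : IsIso ((Over.forget B).map (AlgSt.bHom (𝟙 T) w)) := show IsIso ((yon S).map (𝟙 T)) from inferInstance
  exact isIso_of_reflects_iso _ (Over.forget B)

/-- A sheaf torsor whose total space is a scheme comes from a scheme torsor. -/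
theorem exists_toSpQuot_iso (A : AlgSt.SpQuotObj K ((schSp S).obj G) (schAction aX)) (Q : Over S)
    (i : (yon S).obj Q ≅ A.P.left) :
    ∃ (A₀ : (AlgSt.QuotSt K G aX).obj) (e : (toSpQuot K G aX).obj A₀ ≅ A), OverId e.hom := by
  let j : (schSp S).obj Q ≅ A.P := Over.isoMk i (hom_one_subsingleton _ _)
  obtain ⟨act, hact⟩ := (schSp S).map_surjective
    (Functor.OplaxMonoidal.δ (schSp S) G Q ≫ ((schSp S).obj G ◁ j.hom) ≫ A.act.act ≫ j.inv)
  obtain ⟨p, hp⟩ := (yon S).map_surjective (i.hom ≫ A.π.left)
  obtain ⟨ψ, hψ⟩ := (schSp S).map_surjective (j.hom ≫ A.φ)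
  have hact' : Functor.LaxMonoidal.μ (schSp S) G Q ≫ (schSp S).map act ≫ j.hom =
      ((schSp S).obj G ◁ j.hom) ≫ A.act.act := by
    rw [hact]; simp
  let a₀ : AlgGrp.Action G Q :=
    { act := act
      one_act := by
        apply (schSp S).map_injective
        rw [← cancel_epi (Functor.LaxMonoidal.μ (schSp S) (𝟙_ (Over S)) Q),
          ← cancel_epi (Functor.LaxMonoidal.ε (schSp S) ▷ _), ← cancel_mono j.hom]
        simp only [Functor.map_comp, Category.assoc]
        rw [← Functor.LaxMonoidal.μ_natural_left_assoc, hact', ← comp_whiskerRight_assoc]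
        have h := A.act.one_act
        change ((Functor.LaxMonoidal.ε (schSp S) ≫ (schSp S).map η[G]) ▷ _) ≫ _ = _ at h
        rw [← whisker_exchange_assoc, h]
        simp
      mul_act := by
        apply (schSp S).map_injective
        rw [← cancel_epi (Functor.LaxMonoidal.μ (schSp S) (G ⊗ G) Q),
          ← cancel_epi (Functor.LaxMonoidal.μ (schSp S) G G ▷ _), ← cancel_mono j.hom]
        simp only [Functor.map_comp, Category.assoc]
        rw [← Functor.LaxMonoidal.μ_natural_left_assoc, hact', ← comp_whiskerRight_assoc, ← whisker_exchange_assoc]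
        have h := A.act.mul_act
        change ((Functor.LaxMonoidal.μ (schSp S) G G ≫ (schSp S).map μ[G]) ▷ _) ≫ _ = _ at h
        rw [h, Functor.LaxMonoidal.associativity_assoc, ← Functor.LaxMonoidal.μ_natural_right_assoc, hact',
          ← MonoidalCategory.whiskerLeft_comp_assoc, ← MonoidalCategory.whiskerLeft_comp_assoc, Category.assoc,
          hact', MonoidalCategory.whiskerLeft_comp, Category.assoc, associator_naturality_right_assoc] }
  have hj : (schAction a₀).act ≫ j.hom = ((schSp S).obj G ◁ j.hom) ≫ A.act.act :=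
    (Category.assoc _ _ _).trans hact'
  have hπ : j.hom.left ≫ A.π.left = (yon S).map p := hp.symm
  have cart' : IsPullback (schAction a₀).act (snd _ _) ((schSp S).map p) ((schSp S).map p) := by
    refine IsPullback.of_map (Over.forget _) (Over.OverMorphism.ext ?_) ?_
    · have h := congrArg (fun z => z.left) A.cart.w
      simp only [Over.comp_left] at h ⊢
      rw [schSp_map_left, ← hπ, ← Category.assoc, ← Over.comp_left, hj, Over.comp_left, Category.assoc, h,
        ← Category.assoc, ← Over.comp_left, whiskerLeft_snd, Over.comp_left, Category.assoc]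
    · have h := A.cart.map (Over.forget _)
      refine h.of_iso ((Over.forget _).mapIso (whiskerLeftIso ((schSp S).obj G) j)).symm i.symm i.symm (Iso.refl _)
        ?_ ?_ ?_ ?_
      · simp only [Functor.mapIso_symm, Functor.mapIso_hom, Iso.symm_hom, Over.forget_map]
        show (A.act.act ≫ j.inv).left = ((((schSp S).obj G) ◁ j.inv) ≫ (schAction a₀).act).left
        congr 1
        rw [← cancel_mono j.hom, Category.assoc, Category.assoc, hj]
        simp
      · simp only [Functor.mapIso_symm, Functor.mapIso_hom, Iso.symm_hom, Over.forget_map]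
        show (snd _ A.P ≫ j.inv).left = ((((schSp S).obj G) ◁ j.inv) ≫ snd _ _).left
        congr 1
        simp
      · rw [Iso.refl_hom, Category.comp_id, Iso.symm_hom, Over.forget_map, Over.forget_map, schSp_map_left, ← hπ]
        exact (i.inv_hom_id_assoc _).symm
      · rw [Iso.refl_hom, Category.comp_id, Iso.symm_hom, Over.forget_map, Over.forget_map, schSp_map_left, ← hπ]
        exact (i.inv_hom_id_assoc _).symm
  let A₀ : (AlgSt.QuotSt K G aX).obj :=
    { base := A.base
      P := Q
      act := a₀
      π := p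
      cart := (schAction_cart a₀ p).1 cart'
      loc := (hasSecLoc_iff p).1 (by
        obtain ⟨R, hR, h⟩ := A.loc
        refine ⟨R, hR, fun T' f hf => ?_⟩
        obtain ⟨s, hs⟩ := h f hf
        exact ⟨s ≫ i.inv, by rw [Category.assoc, hp, i.inv_hom_id_assoc, hs]⟩)
      φ := ψ
      eqv := (schAction_eqv a₀ aX ψ).1 (by
        rw [hψ, reassoc_of% hj, MonoidalCategory.whiskerLeft_comp, Category.assoc, A.eqv]) }
  let φh : (toSpQuot K G aX).obj A₀ ⟶ A :=
    { base := 𝟙 _
      wb := hom_one_subsingleton _ _
      top := j.hom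
      eqv := hj
      cart := @IsPullback.of_horiz_isIso _ _ _ _ _ _ _ _ _ _ inferInstance
        (isIso_bHom_id (b := toOne A.base) (b' := A.b) (hom_one_subsingleton _ _)) ⟨Over.OverMorphism.ext (by
        simp only [Over.comp_left]
        rw [hπ]
        show _ = (yon S).map p ≫ (yon S).map (𝟙 _)
        rw [(yon S).map_id, Category.comp_id])⟩
      wφ := hψ.symm }
  have : IsIso φh.base := IsIso.id _
  have := isIso_of_base φh
  exact ⟨A₀, asIso φh, OverId.of_eq (𝒳 := AlgSt.SpQuotSt K _ _) rfl rfl⟩

theorem isEquivOver_toSpQuot_of_representable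
    (h : ∀ A : AlgSt.SpQuotObj K ((schSp S).obj G) (schAction aX), ∃ Q : Over S, Nonempty ((yon S).obj Q ≅ A.P.left)) :
    FibCat.IsEquivOver (toSpQuot K G aX) :=
  have := faithful_toSpQuot K G aX
  have := full_toSpQuot K G aX
  isEquivOver_of_overId _ fun A => by
    obtain ⟨Q, ⟨i⟩⟩ := h A
    exact exists_toSpQuot_iso A Q i

theorem isAlgSpace_schSp (Y : Over S) : IsAlgSpace ((schSp S).obj Y).left := IsAlgSpace.yon_obj Y

/-- Sheaf torsors under an affine group scheme are schemes. -/
theorem exists_scheme_of_torsor [IsAffineHom G.hom] {aY : GAction ((schSp S).obj G) ((schSp S).obj X)}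
    (A : AlgSt.SpQuotObj Scheme.fppfPrecoverage ((schSp S).obj G) aY) :
    ∃ Q : Over S, Nonempty ((yon S).obj Q ≅ A.P.left) := by
  have hG' : IsAffineMor ((schSp S).obj G).hom :=
    Groth.L23.isAffineMor_iff.2 (Groth.L23.repWith_map (P := @IsAffineHom) (show IsAffineHom G.hom from inferInstance))
  obtain ⟨T, g, s, hs, hcov⟩ := exists_points_cover A
  choose m hm using fun t => isPullback_of_section A (g t) (s t) (hs t)
  have hA := isAlgSpace_torsor (IsAlgSpace.yon_obj _) (isAlgSpace_schSp G) A
  have hT : ∀ t, IsAlgSpace ((yon S).obj (T t)) := fun t => IsAlgSpace.yon_obj _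
  have hGt : ∀ t, IsAlgSpace ((schSp S).obj G ⊗ Over.mk ((yon S).map (g t) ≫ A.b)).left := fun t =>
    Groth.L23.isAlgSpace_of_isPullback (IsAlgSpace.yon_obj _).diag (isAlgSpace_schSp G) (hT t)
      (isPullback_tensor_left _ _)
  have haff : IsAffineMor A.π.left :=
    (Groth.L23.isLocalOnBase_fpqc_affine (fun t => (yon S).obj (T t)) (fun t => (yon S).map (g t))
      (IsAlgSpace.yon_obj A.base) hT (Groth.L23.isFpqcCover_of_isFppfCover (IsAlgSpace.yon_obj A.base) hT hcov)
      A.π.left hA _ _ m hGt hm).2
      fun t => Groth.L23.isAffineMor_iff.2 (Groth.L23.repWith_of_isPullback (isPullback_tensor_left _ _)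
        (Groth.L23.isAffineMor_iff.1 hG'))
  have hr := (Groth.L23.isAffineMor_iff.1 haff).1
  exact ⟨hr.pullback (𝟙 _), ⟨@asIso _ _ _ _ (hr.fst (𝟙 _)) (hr.isPullback (𝟙 _)).isIso_fst_of_isIso⟩⟩

/-- For an affine group scheme the fppf quotient stack of schemes is the sheaf quotient stack. -/
theorem isEquivOver_toSpQuot_fppf [IsAffineHom G.hom] :
    FibCat.IsEquivOver (toSpQuot Scheme.fppfPrecoverage G aX) :=
  isEquivOver_toSpQuot_of_representable exists_scheme_of_torsor

theorem isStack_quotSt_fppf [IsAffineHom G.hom] :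
    Stk.IsStack (J S) (AlgSt.QuotSt Scheme.fppfPrecoverage G aX) :=
  (L09.Fib.isStack_iff _ isEquivOver_toSpQuot_fppf).2 isStack_spQuotSt

end Groth.L24.Tors
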