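import Groth.Agent.L24.Tors.IsomSheaf
import Groth.Agent.L24.Tors.LocalSpace

/-!
The sheaf of isomorphisms between two torsors is locally a torsor.
-/

set_option autoImplicit false
set_option backward.isDefEq.respectTransparency false
set_option backward.isDefEq.respectTransparency.types false

universe u

open CategoryTheory CategoryTheory.Limits MonoidalCategory CartesianMonoidalCategory AlgebraicGeometry AlgSp Opposite

noncomputable section

namespace Groth.L24.Tors

variable {S : Scheme.{u}} {B : Sp S} {G : Over B} [GrpObj G] {X : Over B} {aX : AlgSp.GAction G X}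

theorem isPullback_left {A A' : AlgSt.SpQuotObj Scheme.fppfPrecoverage G aX} (h : A ⟶ A') :
    IsPullback h.top.left A.π.left A'.π.left ((yon S).map h.base) :=
  h.cart.map (Over.forget B)

/-- The section of a restriction given by a point. -/
def secLift (A : AlgSt.SpQuotObj Scheme.fppfPrecoverage G aX) {T : Over S} (f : T ⟶ A.base)
    (s : (yon S).obj T ⟶ A.P.left) (hs : s ≫ A.π.left = (yon S).map f) :
    (yon S).obj T ⟶ (restrict A f).P.left :=
  (isPullback_left (restrictHom A f)).lift s (𝟙 _) (hs.trans (Category.id_comp _).symm)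

theorem secLift_fst (A : AlgSt.SpQuotObj Scheme.fppfPrecoverage G aX) {T : Over S} (f : T ⟶ A.base)
    (s : (yon S).obj T ⟶ A.P.left) (hs : s ≫ A.π.left = (yon S).map f) :
    secLift A f s hs ≫ (restrictHom A f).top.left = s :=
  IsPullback.lift_fst _ _ _ _

theorem secLift_snd (A : AlgSt.SpQuotObj Scheme.fppfPrecoverage G aX) {T : Over S} (f : T ⟶ A.base)
    (s : (yon S).obj T ⟶ A.P.left) (hs : s ≫ A.π.left = (yon S).map f) :
    secLift A f s hs ≫ (restrict A f).π.left = 𝟙 _ :=
  IsPullback.lift_snd _ _ _ _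

theorem secLift_map (A : AlgSt.SpQuotObj Scheme.fppfPrecoverage G aX) {T' T : Over S} {f : T ⟶ A.base}
    {f' : T' ⟶ A.base} {t : restrict A f' ⟶ restrict A f} (k : T' ⟶ T) (ht : t.base = k)
    (htc : t ≫ restrictHom A f = restrictHom A f') (s : (yon S).obj T ⟶ A.P.left)
    (hs : s ≫ A.π.left = (yon S).map f) (s' : (yon S).obj T' ⟶ A.P.left)
    (hs' : s' ≫ A.π.left = (yon S).map f') (h : (yon S).map k ≫ s = s') :
    secLift A f' s' hs' ≫ t.top.left = (yon S).map k ≫ secLift A f s hs := by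
  apply (isPullback_left (restrictHom A f)).hom_ext
  · have e := congrArg (fun z => z.top.left) htc
    simp only [AlgSt.SpQuotObj.comp_top, Over.comp_left] at e
    rw [Category.assoc, e, secLift_fst, Category.assoc, secLift_fst, h]
  · rw [Category.assoc, (isPullback_left t).w, ht, ← Category.assoc, secLift_snd, Category.assoc, secLift_snd]
    exact (Category.id_comp _).trans (Category.comp_id _).symm

variable {A₁ A₂ : AlgSt.SpQuotObj Scheme.fppfPrecoverage G aX} {U : Over S} {e₁ : A₁.base = U} {e₂ : A₂.base = U}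

/-- The image of a point of the first torsor. -/
def pt {T : Over S} (x : IsomPt e₁ e₂ T) (s : (yon S).obj T ⟶ A₁.P.left)
    (hs : s ≫ A₁.π.left = (yon S).map (x.a ≫ eqToHom e₁.symm)) : (yon S).obj T ⟶ A₂.P.left :=
  secLift A₁ _ s hs ≫ x.h.top.left

theorem base_eq {T : Over S} (x : IsomPt e₁ e₂ T) : x.h.base = x.a ≫ eqToHom e₂.symm :=
  (comp_eqToHom_iff _ _ _).1 x.base

theorem pt_π {T : Over S} (x : IsomPt e₁ e₂ T) (s : (yon S).obj T ⟶ A₁.P.left)
    (hs : s ≫ A₁.π.left = (yon S).map (x.a ≫ eqToHom e₁.symm)) :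
    pt x s hs ≫ A₂.π.left = (yon S).map (x.a ≫ eqToHom e₂.symm) := by
  rw [pt, Category.assoc, (isPullback_left x.h).w, ← Category.assoc, secLift_snd, ← base_eq]
  exact Category.id_comp _

theorem pt_res {T' T : Over S} (k : T' ⟶ T) (x : IsomPt e₁ e₂ T) (s : (yon S).obj T ⟶ A₁.P.left)
    (hs : s ≫ A₁.π.left = (yon S).map (x.a ≫ eqToHom e₁.symm)) (s' : (yon S).obj T' ⟶ A₁.P.left)
    (hs' : s' ≫ A₁.π.left = (yon S).map ((x.res k).a ≫ eqToHom e₁.symm)) (h : (yon S).map k ≫ s = s') :
    pt (x.res k) s' hs' = (yon S).map k ≫ pt x s hs := by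
  have e : (x.res k).h.top.left =
      (trans A₁ k (f := x.a ≫ eqToHom e₁.symm) (f' := (k ≫ x.a) ≫ eqToHom e₁.symm)
        (Category.assoc _ _ _).symm).top.left ≫ x.h.top.left := rfl
  exact (congrArg (secLift A₁ _ s' hs' ≫ ·) e).trans ((Category.assoc _ _ _).symm.trans ((congrArg (· ≫ x.h.top.left)
    (secLift_map A₁ k (trans_base _ _ _) (trans_comp _ _ _) s hs s' hs' h)).trans (Category.assoc _ _ _)))

theorem eq_of_pt {T : Over S} {x y : IsomPt e₁ e₂ T} (e : x.a = y.a) (s : (yon S).obj T ⟶ A₁.P.left)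
    (hs : s ≫ A₁.π.left = (yon S).map (x.a ≫ eqToHom e₁.symm))
    (hs' : s ≫ A₁.π.left = (yon S).map (y.a ≫ eqToHom e₁.symm)) (h : pt x s hs = pt y s hs') : x = y :=
  IsomPt.ext' e fun t ht htc => by
    refine hom_eq_of_section (secLift A₁ _ s hs) (secLift_snd _ _ _ _) ?_ ?_
    · rw [AlgSt.SpQuotObj.comp_base, ht, base_eq, base_eq, e]
      exact Category.id_comp _
    · rw [AlgSt.SpQuotObj.comp_top, Over.comp_left, ← Category.assoc,
        secLift_map A₁ (𝟙 T) ht htc s hs' s hs (by rw [(yon S).map_id, Category.id_comp]),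
        (yon S).map_id, Category.id_comp]
      exact h.symm

theorem exists_pt (hone : ∀ (T : Over S) (a b : (yon S).obj T ⟶ B), a = b)
    (toTerm : ∀ Y : Over B, Subsingleton (Y ⟶ X)) {T : Over S} (a : T ⟶ U) (s : (yon S).obj T ⟶ A₁.P.left)
    (hs : s ≫ A₁.π.left = (yon S).map (a ≫ eqToHom e₁.symm)) (v : (yon S).obj T ⟶ A₂.P.left)
    (hv : v ≫ A₂.π.left = (yon S).map (a ≫ eqToHom e₂.symm)) :
    ∃ (x : IsomPt e₁ e₂ T) (hs' : s ≫ A₁.π.left = (yon S).map (x.a ≫ eqToHom e₁.symm)),
      x.a = a ∧ pt x s hs' = v := by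
  obtain ⟨h, hb, hh⟩ := exists_hom_of_point (C := restrict A₁ (a ≫ eqToHom e₁.symm)) (A := A₂) toTerm
    (secLift A₁ _ s hs) (secLift_snd _ _ _ _) (a ≫ eqToHom e₂.symm) (hone _ _ _) v hv
  refine ⟨⟨a, h, by rw [hb, Category.assoc, eqToHom_trans, eqToHom_refl]; exact Category.comp_id _⟩, hs, rfl, hh⟩

variable (e₁ e₂)

/-- The sheaf of isomorphisms. -/
def isomSheaf (hsh : Presieve.IsSheaf (J S) (isomPsh e₁ e₂)) : Sp S :=
  ⟨isomPsh e₁ e₂, (isSheaf_iff_isSheaf_of_type _ _).2 hsh⟩

/-- Its map to the base. -/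
def isomSheafπ (hsh : Presieve.IsSheaf (J S) (isomPsh e₁ e₂)) : isomSheaf e₁ e₂ hsh ⟶ (yon S).obj U :=
  ObjectProperty.homMk (isomπ e₁ e₂)

variable {e₁ e₂}

set_option maxHeartbeats 800000 in
/-- Over a trivialisation of the first torsor the sheaf of isomorphisms is the second torsor. -/
theorem exists_isPullback_isom (hone : ∀ (T : Over S) (a b : (yon S).obj T ⟶ B), a = b)
    (toTerm : ∀ Y : Over B, Subsingleton (Y ⟶ X)) (hsh : Presieve.IsSheaf (J S) (isomPsh e₁ e₂))
    {T : Over S} (g : T ⟶ U) (s : (yon S).obj T ⟶ A₁.P.left)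
    (hs : s ≫ A₁.π.left = (yon S).map (g ≫ eqToHom e₁.symm)) :
    ∃ m : pullback A₂.π.left ((yon S).map (g ≫ eqToHom e₂.symm)) ⟶ isomSheaf e₁ e₂ hsh,
      IsPullback m (pullback.snd A₂.π.left ((yon S).map (g ≫ eqToHom e₂.symm))) (isomSheafπ e₁ e₂ hsh)
        ((yon S).map g) := by
  set Z := pullback A₂.π.left ((yon S).map (g ≫ eqToHom e₂.symm))
  let p₁ : Z ⟶ A₂.P.left := pullback.fst _ _
  let p₂ : Z ⟶ (yon S).obj T := pullback.snd _ _
  let pz : ∀ {T' : Over S}, Z.obj.obj (op T') → ((yon S).obj T' ⟶ Z) := fun {T'} z =>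
    (GrothendieckTopology.uliftYonedaEquiv.{u + 1} (J S) (X := T') (F := Z)).symm z
  let kz : ∀ {T' : Over S}, Z.obj.obj (op T') → (T' ⟶ T) := fun {T'} z => (yon S).preimage (pz z ≫ p₂)
  have hkz : ∀ {T' : Over S} (z : Z.obj.obj (op T')), (yon S).map (kz z) = pz z ≫ p₂ := fun z =>
    Functor.map_preimage _ _
  have hs' : ∀ {T' : Over S} (z : Z.obj.obj (op T')),
      ((yon S).map (kz z) ≫ s) ≫ A₁.π.left = (yon S).map ((kz z ≫ g) ≫ eqToHom e₁.symm) := fun z => by
    rw [Category.assoc, hs, ← Functor.map_comp, Category.assoc]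
  have hv : ∀ {T' : Over S} (z : Z.obj.obj (op T')),
      (pz z ≫ p₁) ≫ A₂.π.left = (yon S).map ((kz z ≫ g) ≫ eqToHom e₂.symm) := fun z => by
    rw [Category.assoc, show p₁ ≫ A₂.π.left = p₂ ≫ _ from pullback.condition, ← Category.assoc, ← hkz,
      ← Functor.map_comp, Category.assoc]
  choose xz hsz hxa hxp using fun (T' : Over S) (z : Z.obj.obj (op T')) =>
    exists_pt (e₁ := e₁) (e₂ := e₂) hone toTerm (kz z ≫ g) _ (hs' z) _ (hv z)
  have pz_nat : ∀ {T'' T' : Over S} (l : T'' ⟶ T') (z : Z.obj.obj (op T')),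
      pz (Z.obj.map l.op z) = (yon S).map l ≫ pz z := fun {T'' T'} l z => by
    apply (GrothendieckTopology.uliftYonedaEquiv.{u + 1} (J S) (X := T'') (F := Z)).injective
    rw [Equiv.apply_symm_apply]
    refine Eq.trans ?_ (GrothendieckTopology.uliftYonedaEquiv_naturality _ _ _)
    rw [Equiv.apply_symm_apply]
  have kz_nat : ∀ {T'' T' : Over S} (l : T'' ⟶ T') (z : Z.obj.obj (op T')),
      kz (Z.obj.map l.op z) = l ≫ kz z := fun {T'' T'} l z => by
    apply (yon S).map_injective
    rw [Functor.map_comp, hkz, hkz, pz_nat, Category.assoc]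
  let m : Z ⟶ isomSheaf e₁ e₂ hsh := ObjectProperty.homMk
    { app := fun T' => ↾fun z => xz T'.unop z
      naturality := fun T' T'' l => by
        ext z
        show xz T''.unop (Z.obj.map l z) = (xz T'.unop z).res l.unop
        have ha : (xz T''.unop (Z.obj.map l z)).a = ((xz T'.unop z).res l.unop).a := by
          show _ = l.unop ≫ (xz T'.unop z).a
          rw [hxa, hxa, show kz (Z.obj.map l z) = l.unop ≫ kz z from kz_nat l.unop z, Category.assoc]
        refine eq_of_pt ha _ (hsz _ _) (by rw [← ha]; exact hsz _ _) ?_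
        rw [hxp, pt_res l.unop (xz T'.unop z) _ (hsz _ _) _ _ (by
          rw [show kz (Z.obj.map l z) = l.unop ≫ kz z from kz_nat l.unop z, Functor.map_comp, Category.assoc]),
          hxp, show pz (Z.obj.map l z) = (yon S).map l.unop ≫ pz z from pz_nat l.unop z, Category.assoc] }
  refine ⟨m, IsPullback.of_map (sheafToPresheaf (J S) (Type (u + 1))) ?_ (IsPullback.of_forall_isPullback_app
    fun T' => (Types.isPullback_iff _ _ _ _).2 ⟨?_, ?_, ?_⟩)⟩
  · apply ObjectProperty.hom_ext
    ext T' z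
    show ULift.up (xz T'.unop z).a = _
    rw [hxa]
    show _ = ((yon S).map g).hom.app T' (p₂.hom.app T' z)
    rw [show p₂.hom.app T' z = ULift.up (kz z) from ?_]
    · rfl
    · have h := congrArg (GrothendieckTopology.uliftYonedaEquiv.{u + 1} (J S) (X := T'.unop)
        (F := (yon S).obj T)) (hkz z)
      rw [GrothendieckTopology.uliftYonedaEquiv_uliftYoneda_map, GrothendieckTopology.uliftYonedaEquiv_comp,
        Equiv.apply_symm_apply] at h
      exact h.symm
  · ext z
    show ULift.up (xz T'.unop z).a = _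
    rw [hxa]
    show _ = ((yon S).map g).hom.app T' (p₂.hom.app T' z)
    rw [show p₂.hom.app T' z = ULift.up (kz z) from ?_]
    · rfl
    · have h := congrArg (GrothendieckTopology.uliftYonedaEquiv.{u + 1} (J S) (X := T'.unop)
        (F := (yon S).obj T)) (hkz z)
      rw [GrothendieckTopology.uliftYonedaEquiv_uliftYoneda_map, GrothendieckTopology.uliftYonedaEquiv_comp,
        Equiv.apply_symm_apply] at h
      exact h.symm
  · rintro z z' ⟨h1, h2⟩
    change xz T'.unop z = xz T'.unop z' at h1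
    have hk : pz z ≫ p₂ = pz z' ≫ p₂ := by
      apply (GrothendieckTopology.uliftYonedaEquiv.{u + 1} (J S) (X := T'.unop) (F := (yon S).obj T)).injective
      rw [GrothendieckTopology.uliftYonedaEquiv_comp, GrothendieckTopology.uliftYonedaEquiv_comp,
        Equiv.apply_symm_apply, Equiv.apply_symm_apply]
      exact h2
    have hk' : kz z = kz z' := (yon S).map_injective (by rw [hkz, hkz, hk])
    have hp : ∀ (x y : IsomPt e₁ e₂ T'.unop) (a b : (yon S).obj T'.unop ⟶ A₁.P.left) (ha) (hb), x = y → a = b →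
        pt x a ha = pt y b hb := by rintro x _ a _ ha hb rfl rfl; rfl
    have e := hp _ _ _ _ (hsz _ z) (hsz _ z') h1 (by rw [hk'])
    rw [hxp, hxp] at e
    exact (GrothendieckTopology.uliftYonedaEquiv.{u + 1} (J S) (X := T'.unop) (F := Z)).symm.injective
      (pullback.hom_ext e hk)
  · rintro x ⟨k⟩ h
    have hxk : x.a = k ≫ g := congrArg ULift.down h
    have hsk : ((yon S).map k ≫ s) ≫ A₁.π.left = (yon S).map (x.a ≫ eqToHom e₁.symm) := by
      rw [Category.assoc, hs, ← Functor.map_comp, hxk, Category.assoc]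
    let z := GrothendieckTopology.uliftYonedaEquiv.{u + 1} (J S) (X := T'.unop) (F := Z)
      (pullback.lift (pt x _ hsk) ((yon S).map k) (by
        rw [pt_π, ← Functor.map_comp, hxk, Category.assoc]))
    have hz : pz z = pullback.lift (pt x _ hsk) ((yon S).map k) _ := Equiv.symm_apply_apply _ _
    have hk : kz z = k := (yon S).map_injective (by rw [hkz, hz]; exact pullback.lift_snd _ _ _)
    refine ⟨z, ?_, ?_⟩
    · show xz T'.unop z = x
      refine eq_of_pt (by rw [hxa, hk, hxk]) _ (hsz _ z) (by rw [hk]; exact hsk) ?_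
      rw [hxp, hz]
      simp only [hk]
      exact pullback.lift_fst _ _ _
    · show p₂.hom.app T' z = ULift.up k
      rw [← GrothendieckTopology.uliftYonedaEquiv_comp]
      rw [show pullback.lift (pt x _ hsk) ((yon S).map k) _ ≫ p₂ = (yon S).map k from pullback.lift_snd _ _ _]
      exact GrothendieckTopology.uliftYonedaEquiv_uliftYoneda_map _ _

/-- The sheaf of isomorphisms between torsors is an algebraic space with the properties of the group. -/
theorem isAlgSpace_and_prop_isom (hB : IsAlgSpace B) (hG : IsAlgSpace G.left)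
    (hone : ∀ (T : Over S) (a b : (yon S).obj T ⟶ B), a = b) (toTerm : ∀ Y : Over B, Subsingleton (Y ⟶ X))
    (P : MorphismProperty (Sp S)) (hPB : Groth.L24.St.PBase P) (hloc : AlgSp.IsLocalOnBase AlgSp.IsFppfCover P)
    (hP : P G.hom) (hsh : Presieve.IsSheaf (J S) (isomPsh e₁ e₂)) :
    IsAlgSpace (isomSheaf e₁ e₂ hsh) ∧ P (isomSheafπ e₁ e₂ hsh) := by
  subst e₁
  obtain ⟨T, g, s, hs, hcov⟩ := exists_points_cover A₁
  choose m hm using fun t => exists_isPullback_isom (e₁ := rfl) (e₂ := e₂) hone toTerm hsh (g t) (s t)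
    (by rw [hs, eqToHom_refl, Category.comp_id])
  refine isAlgSpace_and_prop_of_local hcov _ (fun t => ?_) m _ hm P hloc fun t => ?_
  · exact Groth.L23.isAlgSpace_of_isPullback (IsAlgSpace.yon_obj A₂.base).diag (isAlgSpace_torsor hB hG A₂)
      (IsAlgSpace.yon_obj (T t)) (IsPullback.of_hasPullback _ _)
  · exact hPB (isAlgSpace_torsor hB hG A₂) (IsAlgSpace.yon_obj A₂.base)
      (Groth.L23.isAlgSpace_of_isPullback (IsAlgSpace.yon_obj A₂.base).diag (isAlgSpace_torsor hB hG A₂)
        (IsAlgSpace.yon_obj (T t)) (IsPullback.of_hasPullback _ _)) (IsAlgSpace.yon_obj (T t)) _ _ _ _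
      (IsPullback.of_hasPullback _ _) (prop_torsor A₂ hB hG P hPB hloc hP)

end Groth.L24.Tors
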