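import Groth.Prelude.Def_AlgSt3
import Groth.Agent.L09.FibHom

/-!
A full subcategory containing every object is equivalent over the base.
-/

set_option autoImplicit false
set_option backward.isDefEq.respectTransparency false
set_option backward.isDefEq.respectTransparency.types false

universe v w u

open CategoryTheory AlgebraicGeometry

noncomputable section

namespace Groth.L24.Tors

variable {S : Scheme.{u}} {𝒳 : BasedCategory.{v, w} (Over S)} {Q : 𝒳.obj → Prop}

/-- The inclusion of a full subcategory containing every object. -/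
theorem isEquivOver_subIncl (h : ∀ x, Q x) : FibCat.IsEquivOver (AlgSt.subIncl 𝒳 Q) := by
  let G : 𝒳 ⥤ᵇ AlgSt.fullSub 𝒳 Q :=
    { toFunctor := ObjectProperty.lift Q (𝟭 _) h
      w := rfl }
  exact ⟨G, ⟨Iso.refl _⟩, ⟨Iso.refl _⟩⟩

theorem isStack_fullSub (h : ∀ x, Q x) {J : GrothendieckTopology (Over S)} (h𝒳 : Stk.IsStack J 𝒳) :
    Stk.IsStack J (AlgSt.fullSub 𝒳 Q) :=
  (Groth.L09.Fib.isStack_iff J (isEquivOver_subIncl h)).2 h𝒳

end Groth.L24.Tors
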