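import Groth.Agent.L24.St.Rep
import Groth.Agent.L24.St.Sp

/-!
A witness of representability from a classifying functor.
-/

set_option autoImplicit false
set_option backward.isDefEq.respectTransparency false
set_option backward.isDefEq.respectTransparency.types false

universe v' w' v w u

open CategoryTheory CategoryTheory.Limits AlgebraicGeometry

noncomputable section

namespace Groth.L24.Tors

open Groth.L24.St

variable {S : Scheme.{u}} {𝒳 : BasedCategory.{v, w} (Over S)} {𝒴 : BasedCategory.{v', w'} (Over S)}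

/-- An equivalence of the fibre product with the category of a sheaf over the base gives a witness. -/
theorem wit_of_classifier {P : MorphismProperty (AlgSp.Sp S)} {U : Over S} {y : FibCat.overCat U ⥤ᵇ 𝒴}
    {f : 𝒳 ⥤ᵇ 𝒴} {F : AlgSp.Space S} (q : F.obj ⟶ (AlgSp.yon S).obj U)
    (Θ : FibCat.fp y f ⥤ᵇ AlgSt.ofSp F.obj) (hΘ : FibCat.IsEquivOver Θ)
    (h : ∀ w, secAt (BasedFunctor.comp Θ (AlgSt.ofSpMap q)) w =
      secAt (BasedFunctor.comp (FibCat.fpFst y f) (AlgSt.ofOverCat U)) w) (hq : P q) : Wit P y f := by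
  obtain ⟨c, hc, -, ⟨i⟩⟩ := exists_inverse hΘ
  refine ⟨F, c, hc, ?_⟩
  have e : BasedFunctor.comp c (BasedFunctor.comp (FibCat.fpFst y f) (AlgSt.ofOverCat U)) ≅
      BasedFunctor.comp (BasedFunctor.comp c Θ) (AlgSt.ofSpMap q) :=
    (whiskerL c (isoOfSecAt h)).symm
  have e2 : AlgSt.spMapOfOver (BasedFunctor.comp c (FibCat.fpFst y f)) = q := by
    rw [spMapOfOver_eq]
    refine (spMap_congr (Ψ := BasedFunctor.comp (BasedFunctor.comp c Θ) (AlgSt.ofSpMap q)) e).trans ?_
    rw [spMap_comp, spMap_congr i, spMap_id, spMap_ofSpMap, Category.id_comp]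
  rw [e2]
  exact hq

end Groth.L24.Tors
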