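import Groth.Agent.L24.Tors.Basic
import Groth.Prelude.Def_AlgSpCov
import Groth.Agent.L24.St.OverSpace

/-!
Properties of the structure map of a torsor descend from the group.
-/

set_option autoImplicit false
set_option backward.isDefEq.respectTransparency false
set_option backward.isDefEq.respectTransparency.types false

universe u

open CategoryTheory CategoryTheory.Limits MonoidalCategory CartesianMonoidalCategory AlgebraicGeometry AlgSp

noncomputable section

namespace Groth.L24.Tors

theorem pBase_of_stable {S : Scheme.{u}} (P : MorphismProperty (Sp S)) [P.IsStableUnderBaseChange] :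
    Groth.L24.St.PBase P := fun _ _ _ _ _ _ _ _ _ _ _ _ sq h => P.of_isPullback sq h

theorem pBase_comp_iso {S : Scheme.{u}} {P : MorphismProperty (Sp S)} (hPB : Groth.L24.St.PBase P) {X Y Y' : Sp S}
    (hX : IsAlgSpace X) (hY : IsAlgSpace Y) (hY' : IsAlgSpace Y') (a : X ⟶ Y) (e : Y ⟶ Y') [IsIso e] (h : P a) :
    P (a ≫ e) :=
  hPB hX hY hX hY' a (inv e) (a ≫ e) (𝟙 X) (IsPullback.of_horiz_isIso ⟨by simp⟩) h

variable {S : Scheme.{u}} {B : Sp S} {G : Over B} [GrpObj G] {X : Over B} {aX : AlgSp.GAction G X}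
  (A : AlgSt.SpQuotObj Scheme.fppfPrecoverage G aX)

/-- An fppf covering of the base over which the torsor has sections. -/
theorem exists_points_cover : ∃ (T : A.base.left → Over S) (g : ∀ t, T t ⟶ A.base)
    (s : ∀ t, (yon S).obj (T t) ⟶ A.P.left), (∀ t, s t ≫ A.π.left = (yon S).map (g t)) ∧
      AlgSp.IsFppfCover (fun t => (yon S).obj (T t)) (fun t => (yon S).map (g t)) := by
  obtain ⟨R, hR, hsec⟩ := A.loc
  obtain ⟨ι, Y, f, rfl⟩ := R.exists_eq_ofArrows
  obtain ⟨hsurj, hprop⟩ := (Scheme.ofArrows_mem_precoverage_iff _).1 hR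
  choose i hi using fun t : A.base.left => hsurj t
  choose s hs using fun t => hsec (f (i t)) (.mk (i t))
  refine ⟨fun t => Over.mk (f (i t) ≫ A.base.hom), fun t => Over.homMk (f (i t)), s, hs, fun t => ⟨?_, ?_⟩, fun x => ?_⟩
  · exact Groth.L23.locP_of_repWith Groth.L23.etLocal_flat (Groth.L23.repWith_map (hprop (i t)).1)
  · exact Groth.L23.locP_of_repWith Groth.L23.etLocal_lfp (Groth.L23.repWith_map (hprop (i t)).2)
  · obtain ⟨t, rfl⟩ := (Points.schemeEquiv A.base).surjective x
    obtain ⟨y, hy⟩ := hi t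
    refine ⟨t, Points.ofScheme _ y, ?_⟩
    rw [← Points.ofPt_eq_map_ofScheme, Groth.L23.ofPt_map]
    show Points.ofScheme A.base _ = Points.ofScheme A.base t
    rw [show (Over.homMk (f (i t)) : Over.mk (f (i t) ≫ A.base.hom) ⟶ A.base).left y = t from hy]

/-- The structure map of a torsor has every property of the group which is fppf local on the target. -/
theorem prop_torsor (hB : IsAlgSpace B) (hG : IsAlgSpace G.left) (P : MorphismProperty (Sp S))
    (hPB : Groth.L24.St.PBase P) (hloc : AlgSp.IsLocalOnBase AlgSp.IsFppfCover P) (hP : P G.hom) :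
    P A.π.left := by
  obtain ⟨T, g, s, hs, hcov⟩ := exists_points_cover A
  choose m hm using fun t => isPullback_of_section A (g t) (s t) (hs t)
  exact (hloc (fun t => (yon S).obj (T t)) (fun t => (yon S).map (g t)) (IsAlgSpace.yon_obj A.base)
    (fun t => IsAlgSpace.yon_obj (T t)) hcov A.π.left (isAlgSpace_torsor hB hG A)
    (fun t => (G ⊗ Over.mk ((yon S).map (g t) ≫ A.b)).left) (fun t => (snd G _).left) m
    (fun t => Groth.L23.isAlgSpace_of_isPullback hB.diag hG (IsAlgSpace.yon_obj (T t))
      (isPullback_tensor_left G (Over.mk ((yon S).map (g t) ≫ A.b)))) hm).2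
    fun t => hPB hG hB (Groth.L23.isAlgSpace_of_isPullback hB.diag hG (IsAlgSpace.yon_obj (T t))
      (isPullback_tensor_left G (Over.mk ((yon S).map (g t) ≫ A.b)))) (IsAlgSpace.yon_obj (T t)) _ _ _ _
      (isPullback_tensor_left G (Over.mk ((yon S).map (g t) ≫ A.b))) hP

end Groth.L24.Tors
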