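import Groth.Agent.L24.Tors.Points
import Groth.Agent.L24.Tors.TorsProp
import Groth.Agent.L24.Tors.Classifier
import Groth.Agent.L24.Tors.StackProof

/-!
The trivial torsor `h_S ⟶ BG` is representable by algebraic spaces.
-/

set_option autoImplicit false
set_option backward.isDefEq.respectTransparency false
set_option backward.isDefEq.respectTransparency.types false

universe u

open CategoryTheory CategoryTheory.Limits MonoidalCategory CartesianMonoidalCategory MonObj AlgebraicGeometry AlgSp Opposite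

noncomputable section

namespace Groth.L24.Tors

open Groth.L24.St

variable {S : Scheme.{u}} {G : Over ((yon S).obj (Over.mk (𝟙 S)))} [GrpObj G]

theorem hom_yon_one_subsingleton {T : Over S} (a b : (yon S).obj T ⟶ (yon S).obj (Over.mk (𝟙 S))) : a = b := by
  obtain ⟨a, rfl⟩ := (yon S).map_surjective a
  obtain ⟨b, rfl⟩ := (yon S).map_surjective b
  congr 1
  ext1
  have ha : a.left = T.hom := (Category.comp_id _).symm.trans (Over.w a)
  have hb : b.left = T.hom := (Category.comp_id _).symm.trans (Over.w b)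
  rw [ha, hb]

theorem sec_one_subsingleton {T : Over S} (a b : ((yon S).obj (Over.mk (𝟙 S))).obj.obj (op T)) : a = b :=
  (GrothendieckTopology.uliftYonedaEquiv.{u + 1} (J S) (X := T)
    (F := (yon S).obj (Over.mk (𝟙 S)))).symm.injective (hom_yon_one_subsingleton _ _)

theorem hom_toTerminal_subsingleton (Y : Over ((yon S).obj (Over.mk (𝟙 S)))) :
    Subsingleton (Y ⟶ 𝟙_ (Over ((yon S).obj (Over.mk (𝟙 S))))) :=
  ⟨fun a b => toUnit_unique a b⟩

/-- The unit section of a trivial torsor. -/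
def unitSec (s : (AlgSt.ofSp ((𝟙_ (Over ((yon S).obj (Over.mk (𝟙 S))))).left)).obj) :
    (yon S).obj s.base ⟶ ((AlgSt.spQuotMap Scheme.fppfPrecoverage G (AlgSt.trivGAction G)).obj s).P.left :=
  (lift (toUnit (Over.mk (AlgSt.secYon s ≫ (𝟙_ (Over _)).hom)) ≫ η[G]) (𝟙 _)).left

theorem unitSec_π (s : (AlgSt.ofSp ((𝟙_ (Over ((yon S).obj (Over.mk (𝟙 S))))).left)).obj) :
    unitSec (G := G) s ≫ ((AlgSt.spQuotMap Scheme.fppfPrecoverage G (AlgSt.trivGAction G)).obj s).π.left = 𝟙 _ := by
  show (_ : _ ⟶ G ⊗ _).left ≫ (snd G _).left = _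
  rw [← Over.comp_left, lift_snd]
  rfl

theorem unitSec_map {s s' : (AlgSt.ofSp ((𝟙_ (Over ((yon S).obj (Over.mk (𝟙 S))))).left)).obj} (ψ : s ⟶ s') :
    unitSec (G := G) s ≫ ((AlgSt.spQuotMap Scheme.fppfPrecoverage G (AlgSt.trivGAction G)).map ψ).top.left =
      (yon S).map ψ.hom ≫ unitSec (G := G) s' := by
  let w : (yon S).map ψ.hom ≫ AlgSt.secYon s' ≫ (𝟙_ (Over _)).hom = AlgSt.secYon s ≫ (𝟙_ (Over _)).hom :=
    hom_yon_one_subsingleton _ _
  show (lift (toUnit (Over.mk (AlgSt.secYon s ≫ (𝟙_ (Over _)).hom)) ≫ η[G]) (𝟙 _) ≫ (G ◁ AlgSt.bHom ψ.hom w)).left =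
    (AlgSt.bHom ψ.hom w ≫ lift (toUnit (Over.mk (AlgSt.secYon s' ≫ (𝟙_ (Over _)).hom)) ≫ η[G]) (𝟙 _)).left
  congr 1
  apply CartesianMonoidalCategory.hom_ext
  · simp
  · simp

variable {U : Over S} (y : FibCat.overCat U ⥤ᵇ AlgSt.SpBG Scheme.fppfPrecoverage G)

/-- The trivial torsor functor. -/
abbrev trivMap (G : Over ((yon S).obj (Over.mk (𝟙 S)))) [GrpObj G] :
    AlgSt.ofSp ((𝟙_ (Over ((yon S).obj (Over.mk (𝟙 S))))).left) ⥤ᵇ AlgSt.SpBG Scheme.fppfPrecoverage G :=
  AlgSt.spQuotMap Scheme.fppfPrecoverage G (AlgSt.trivGAction G)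

variable {y}

/-- The classifying morphism of an object of the fibre product. -/
def clsHom (w : (FibCat.fp y (trivMap G)).obj) : (trivMap G).obj w.obj.snd ⟶ y.obj (idOver U) :=
  w.obj.iso.inv ≫ y.map (toId w.obj.fst)

theorem snd_base (w : (FibCat.fp y (trivMap G)).obj) : w.obj.snd.base = w.obj.fst.left :=
  (FibCat.fpSnd y (trivMap G)).w_obj w

theorem iso_base (w : (FibCat.fp y (trivMap G)).obj) :
    w.obj.iso.hom.base = eqToHom ((base_obj y w.obj.fst).trans (snd_base w).symm) ∧
      w.obj.iso.inv.base = eqToHom ((snd_base w).trans (base_obj y w.obj.fst).symm) := by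
  have h : (AlgSt.SpBG Scheme.fppfPrecoverage G).p.IsHomLift (𝟙 ((FibCat.overCat U).p.obj w.obj.fst))
      w.obj.iso.hom := w.property
  have h' := @IsHomLift.fac' _ _ _ _ (AlgSt.SpBG Scheme.fppfPrecoverage G).p _ _ _ _
    (𝟙 ((FibCat.overCat U).p.obj w.obj.fst)) w.obj.iso.hom h
  change w.obj.iso.hom.base = _ at h'
  have hh : w.obj.iso.hom.base = eqToHom ((base_obj y w.obj.fst).trans (snd_base w).symm) := by
    rw [h']; simp only [Category.id_comp]; exact eqToHom_trans _ _
  refine ⟨hh, ?_⟩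
  have h3 : w.obj.iso.inv.base ≫ w.obj.iso.hom.base = 𝟙 _ := congrArg (fun z => z.base) w.obj.iso.inv_hom_id
  rw [hh] at h3
  exact ((comp_eqToHom_iff _ _ _).1 h3).trans (Category.id_comp _)

theorem clsHom_base (w : (FibCat.fp y (trivMap G)).obj) :
    (clsHom w).base ≫ eqToHom (base_obj y (idOver U)) = eqToHom (snd_base w) ≫ w.obj.fst.hom := by
  show (w.obj.iso.inv ≫ y.map (toId w.obj.fst)).base ≫ _ = _
  rw [AlgSt.SpQuotObj.comp_base, Category.assoc, map_toId_base, (iso_base w).2, eqToHom_trans_assoc]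

/-- The point of the torsor. -/
def clsPt (w : (FibCat.fp y (trivMap G)).obj) : (yon S).obj w.obj.fst.left ⟶ (y.obj (idOver U)).P.left :=
  (yon S).map (eqToHom (snd_base w).symm) ≫ unitSec (G := G) w.obj.snd ≫ (clsHom w).top.left

variable (y) in
/-- The structure map of the classifying sheaf. -/
def qMap : (y.obj (idOver U)).P.left ⟶ (yon S).obj U :=
  (y.obj (idOver U)).π.left ≫ (yon S).map (eqToHom (base_obj y (idOver U)))

theorem clsPt_q (w : (FibCat.fp y (trivMap G)).obj) : clsPt w ≫ qMap y = (yon S).map w.obj.fst.hom := by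
  have h := congrArg (fun z => z.left) (clsHom w).cart.w
  simp only [Over.comp_left] at h
  change (clsHom w).top.left ≫ (y.obj (idOver U)).π.left = ((trivMap G).obj w.obj.snd).π.left ≫ (yon S).map (clsHom w).base at h
  unfold clsPt qMap
  rw [Category.assoc, Category.assoc, reassoc_of% h]
  slice_lhs 2 3 => rw [unitSec_π]
  rw [Category.id_comp, ← Functor.map_comp, ← Functor.map_comp, clsHom_base]
  simp

theorem snd_hom {w w' : (FibCat.fp y (trivMap G)).obj} (φ : w ⟶ w') :
    φ.hom.snd.hom ≫ eqToHom (snd_base w') = eqToHom (snd_base w) ≫ φ.hom.fst.left := by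
  have h := Functor.congr_hom (FibCat.fpSnd y (trivMap G)).w φ
  change φ.hom.snd.hom = eqToHom _ ≫ φ.hom.fst.left ≫ eqToHom _ at h
  rw [h]
  simp

theorem clsHom_map {w w' : (FibCat.fp y (trivMap G)).obj} (φ : w ⟶ w') :
    (trivMap G).map φ.hom.snd ≫ clsHom w' = clsHom w := by
  have h := φ.hom.w
  show (trivMap G).map φ.hom.snd ≫ w'.obj.iso.inv ≫ y.map (toId w'.obj.fst) = w.obj.iso.inv ≫ y.map (toId w.obj.fst)
  rw [Iso.eq_inv_comp, ← reassoc_of% h, Iso.hom_inv_id_assoc, ← Functor.map_comp]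
  congr 1
  exact Over.OverMorphism.ext (Over.w φ.hom.fst)

theorem clsPt_map {w w' : (FibCat.fp y (trivMap G)).obj} (φ : w ⟶ w') :
    (yon S).map φ.hom.fst.left ≫ clsPt w' = clsPt w := by
  unfold clsPt
  rw [← clsHom_map φ, AlgSt.SpQuotObj.comp_top, Over.comp_left, reassoc_of% (unitSec_map (G := G) φ.hom.snd),
    ← Functor.map_comp_assoc, ← Functor.map_comp_assoc]
  congr 2
  rw [← cancel_mono (eqToHom (snd_base w')), Category.assoc, Category.assoc, snd_hom, eqToHom_trans,
    eqToHom_refl, Category.comp_id, eqToHom_trans_assoc, eqToHom_refl, Category.id_comp]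

variable (y) in
/-- The classifying functor. -/
def clsFun : FibCat.fp y (trivMap G) ⥤ᵇ AlgSt.ofSp (y.obj (idOver U)).P.left where
  toFunctor :=
    { obj := fun w => ⟨w.obj.fst.left,
        GrothendieckTopology.uliftYonedaEquiv.{u + 1} (J S) (X := w.obj.fst.left)
          (F := (y.obj (idOver U)).P.left) (clsPt w)⟩
      map := fun {w w'} φ => ⟨φ.hom.fst.left, by
        rw [GrothendieckTopology.uliftYonedaEquiv_naturality]
        exact congrArg _ (clsPt_map φ)⟩
      map_id := fun w => Stk.EltObj.hom_ext rfl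
      map_comp := fun _ _ => Stk.EltObj.hom_ext rfl }
  w := rfl

theorem faithful_clsFun : (clsFun y).toFunctor.Faithful := ⟨fun {w w' φ φ'} h => by
  have h1 : φ.hom.fst.left = φ'.hom.fst.left := congrArg (fun z => z.hom) h
  refine fp_ext (Over.OverMorphism.ext h1) (Stk.EltObj.hom_ext ?_)
  rw [← cancel_mono (eqToHom (snd_base w')), snd_hom φ, snd_hom φ', h1]⟩

set_option maxHeartbeats 800000 in
theorem full_clsFun : (clsFun y).toFunctor.Full := ⟨fun {w w'} m => by
  let k : w.obj.fst.left ⟶ w'.obj.fst.left := m.hom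
  have hpt : (yon S).map k ≫ clsPt w' = clsPt w := by
    apply (GrothendieckTopology.uliftYonedaEquiv.{u + 1} (J S) (X := w.obj.fst.left)
      (F := (y.obj (idOver U)).P.left)).injective
    exact (GrothendieckTopology.uliftYonedaEquiv_naturality _ _ _).symm.trans m.map_sec
  have hk : k ≫ w'.obj.fst.hom = w.obj.fst.hom := (yon S).map_injective (by
    rw [Functor.map_comp, ← clsPt_q w', ← Category.assoc, hpt, clsPt_q])
  let φ : w.obj.fst ⟶ w'.obj.fst := Over.homMk k hk
  let ψ : w.obj.snd ⟶ w'.obj.snd :=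
    ⟨eqToHom (snd_base w) ≫ k ≫ eqToHom (snd_base w').symm, sec_one_subsingleton _ _⟩
  have key : (trivMap G).map ψ ≫ clsHom w' = clsHom w := by
    refine hom_eq_of_section (unitSec (G := G) w.obj.snd) (unitSec_π _) ?_ ?_
    · show ψ.hom ≫ (clsHom w').base = (clsHom w).base
      rw [← cancel_mono (eqToHom (base_obj y (idOver U))), Category.assoc, clsHom_base, clsHom_base]
      simp only [ψ, Category.assoc, eqToHom_trans_assoc, eqToHom_refl, Category.id_comp]
      rw [hk]
    · rw [AlgSt.SpQuotObj.comp_top, Over.comp_left, reassoc_of% (unitSec_map (G := G) ψ)]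
      have h := congrArg ((yon S).map (eqToHom (snd_base w)) ≫ ·) hpt
      simp only [clsPt, ← Functor.map_comp_assoc, eqToHom_trans, eqToHom_refl, Category.assoc] at h
      simpa [ψ] using h
  have sq : y.map φ ≫ w'.obj.iso.hom = w.obj.iso.hom ≫ (trivMap G).map ψ := by
    have : y.map φ = w.obj.iso.hom ≫ (trivMap G).map ψ ≫ w'.obj.iso.inv := by
      refine (exists_lift_hom (y.map (toId w'.obj.fst)) (y.map (toId w.obj.fst)) (y.map φ).base ?_).unique
        ⟨rfl, ?_⟩ ⟨?_, ?_⟩
      · rw [← AlgSt.SpQuotObj.comp_base, ← Functor.map_comp]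
        congr 2
        exact Over.OverMorphism.ext hk
      · rw [← Functor.map_comp]
        congr 1
        exact Over.OverMorphism.ext hk
      · rw [AlgSt.SpQuotObj.comp_base, AlgSt.SpQuotObj.comp_base, (iso_base w).1, (iso_base w').2]
        show _ ≫ (eqToHom (snd_base w) ≫ k ≫ eqToHom (snd_base w').symm) ≫ _ = _
        simp only [Category.assoc, eqToHom_trans, eqToHom_trans_assoc]
        rw [← cancel_mono (eqToHom (base_obj y w'.obj.fst)), base_map y φ, Category.assoc, Category.assoc,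
          eqToHom_trans, eqToHom_refl, Category.comp_id]
        rfl
      · rw [Category.assoc, Category.assoc]
        rw [show (trivMap G).map ψ ≫ w'.obj.iso.inv ≫ y.map (toId w'.obj.fst) = (trivMap G).map ψ ≫ clsHom w'
          from rfl, key]
        exact Iso.hom_inv_id_assoc _ _
    rw [this, Category.assoc, Category.assoc, Iso.inv_hom_id, Category.comp_id]
  exact ⟨fpHom φ ψ sq, Stk.EltObj.hom_ext rfl⟩⟩

theorem essSurj_clsFun (z : (AlgSt.ofSp (y.obj (idOver U)).P.left).obj) :
    ∃ (w : (FibCat.fp y (trivMap G)).obj) (e : (clsFun y).obj w ≅ z), OverId e.hom := by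
  let v : (yon S).obj z.base ⟶ (y.obj (idOver U)).P.left :=
    (GrothendieckTopology.uliftYonedaEquiv.{u + 1} (J S) (X := z.base)
      (F := (y.obj (idOver U)).P.left)).symm z.sec
  let a₀ : z.base ⟶ U := (yon S).preimage (v ≫ qMap y)
  let a : (FibCat.overCat U).obj := Over.mk a₀
  let s : (AlgSt.ofSp ((𝟙_ (Over ((yon S).obj (Over.mk (𝟙 S))))).left)).obj :=
    ⟨z.base, GrothendieckTopology.uliftYonedaEquiv.{u + 1} (J S) (X := z.base)
      (F := (yon S).obj (Over.mk (𝟙 S))) ((yon S).map (Over.homMk z.base.hom (Category.comp_id _)))⟩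
  have hv : v ≫ (y.obj (idOver U)).π.left = (yon S).map (a₀ ≫ eqToHom (base_obj y (idOver U)).symm) := by
    rw [Functor.map_comp, show (yon S).map a₀ = v ≫ qMap y from Functor.map_preimage _ _]
    simp [qMap, eqToHom_map]
  obtain ⟨h, hb, hh⟩ := exists_hom_of_point (C := (trivMap G).obj s) (A := y.obj (idOver U))
    hom_toTerminal_subsingleton (unitSec (G := G) s) (unitSec_π s) (a₀ ≫ eqToHom (base_obj y (idOver U)).symm)
    (hom_yon_one_subsingleton _ _) v hv
  obtain ⟨χ, hχb, hχ⟩ := (exists_lift_hom (y.map (toId a)) h (eqToHom (base_obj y a).symm) (by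
    rw [hb, ← cancel_mono (eqToHom (base_obj y (idOver U))), Category.assoc, map_toId_base, eqToHom_trans_assoc,
      eqToHom_refl, Category.id_comp, Category.assoc, eqToHom_trans, eqToHom_refl, Category.comp_id]
    rfl)).exists
  have : IsIso χ.base := by rw [hχb]; infer_instance
  have := isIso_of_base χ
  have hlift : (AlgSt.SpBG Scheme.fppfPrecoverage G).p.IsHomLift (𝟙 ((FibCat.overCat U).p.obj a))
      (asIso χ).symm.hom := by
    refine IsHomLift.of_fac' _ _ _ (base_obj y a) rfl ?_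
    show (inv χ).base = _
    have h3 : (inv χ).base ≫ χ.base = 𝟙 _ := congrArg (fun w => w.base) (IsIso.inv_hom_id χ)
    rw [hχb] at h3
    rw [(comp_eqToHom_iff _ _ _).1 h3]
    simp
  let w : (FibCat.fp y (trivMap G)).obj := ⟨⟨a, s, (asIso χ).symm⟩, hlift⟩
  have hpt : clsPt w = v := by
    show (yon S).map (eqToHom rfl) ≫ unitSec (G := G) s ≫ (χ ≫ y.map (toId a)).top.left = v
    rw [hχ, eqToHom_refl, (yon S).map_id, Category.id_comp, hh]
  refine ⟨w, eltIso rfl ?_, eltIso_overId _ _⟩
  show _ = GrothendieckTopology.uliftYonedaEquiv.{u + 1} (J S) (X := z.base)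
      (F := (y.obj (idOver U)).P.left) (clsPt w)
  rw [hpt, Equiv.apply_symm_apply]
  show (y.obj (idOver U)).P.left.obj.map (𝟙 (op z.base)) z.sec = z.sec
  rw [CategoryTheory.Functor.map_id]
  rfl

/-- The trivial torsor is representable by algebraic spaces, with every fppf local property of the group. -/
theorem repByAlgSpWith_trivMap (hG : IsAlgSpace G.left) (P : MorphismProperty (Sp S))
    (hPB : PBase P) (hloc : AlgSp.IsLocalOnBase AlgSp.IsFppfCover P) (hP : P G.hom) :
    AlgSt.RepByAlgSpWith P (trivMap G) := fun U y => by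
  have := faithful_clsFun (y := y)
  have := full_clsFun (y := y)
  have hB := IsAlgSpace.yon_obj (Over.mk (𝟙 S))
  refine wit_of_classifier (F := ⟨(y.obj (idOver U)).P.left, isAlgSpace_torsor hB hG _⟩) (qMap y) (clsFun y)
    (isEquivOver_of_overId _ essSurj_clsFun) (fun w => ?_) ?_
  · rw [secAt_ofPshMap_comp]
    have h := congrArg (GrothendieckTopology.uliftYonedaEquiv.{u + 1} (J S) (X := w.obj.fst.left)
      (F := (yon S).obj U)) (clsPt_q w)
    rw [GrothendieckTopology.uliftYonedaEquiv_comp, GrothendieckTopology.uliftYonedaEquiv_uliftYoneda_map] at h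
    show (qMap y).hom.app _ ((y.obj (idOver U)).P.left.obj.map (eqToHom (rfl : w.obj.fst.left = w.obj.fst.left)).op
      (GrothendieckTopology.uliftYonedaEquiv.{u + 1} (J S) (X := w.obj.fst.left)
        (F := (y.obj (idOver U)).P.left) (clsPt w))) =
      ((yon S).obj U).obj.map (eqToHom (rfl : w.obj.fst.left = w.obj.fst.left)).op (ULift.up w.obj.fst.hom)
    simp only [eqToHom_refl, op_id, CategoryTheory.Functor.map_id]
    exact h
  · exact pBase_comp_iso hPB (isAlgSpace_torsor hB hG _) (IsAlgSpace.yon_obj _) (IsAlgSpace.yon_obj U) _ _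
      (prop_torsor _ hB hG P hPB hloc hP)

end Groth.L24.Tors
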