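import Groth.Agent.L24.Tors.IsomLocal
import Groth.Agent.L24.Tors.BGRep
import Groth.Agent.L24.St.StackSp
import Groth.Agent.L24.St.DiagAbs

/-!
The diagonal of `BG` is representable by algebraic spaces.
-/

set_option autoImplicit false
set_option backward.isDefEq.respectTransparency false
set_option backward.isDefEq.respectTransparency.types false

universe u

open CategoryTheory CategoryTheory.Limits MonoidalCategory CartesianMonoidalCategory AlgebraicGeometry AlgSp Opposite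

noncomputable section

namespace Groth.L24.Tors

open Groth.L24.St

variable {S : Scheme.{u}} {B : Sp S} {G : Over B} [GrpObj G] {X : Over B} {aX : AlgSp.GAction G X}

theorem IsomPt.h_eq {A₁ A₂ : AlgSt.SpQuotObj Scheme.fppfPrecoverage G aX} {U : Over S} {e₁ : A₁.base = U}
    {e₂ : A₂.base = U} {T : Over S} {x y : IsomPt e₁ e₂ T} (e : x = y)
    (t : restrict A₁ (x.a ≫ eqToHom e₁.symm) ⟶ restrict A₁ (y.a ≫ eqToHom e₁.symm)) (ht : t.base = 𝟙 T)
    (htc : t ≫ restrictHom A₁ _ = restrictHom A₁ _) : t ≫ y.h = x.h := by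
  subst e
  rw [hom_restrict_ext (a := t) (b := 𝟙 _) ht (htc.trans (Category.id_comp _).symm), Category.id_comp]

variable {U : Over S}

section Lifts

variable (x : FibCat.overCat U ⥤ᵇ AlgSt.SpQuotSt Scheme.fppfPrecoverage G aX)

/-- The object classified by a functor on a slice. -/
abbrev obj₀ : AlgSt.SpQuotObj Scheme.fppfPrecoverage G aX := x.obj (idOver U)

theorem exists_toX (a : (FibCat.overCat U).obj) :
    ∃ χ : restrict (obj₀ x) (a.hom ≫ eqToHom (base_obj x (idOver U)).symm) ⟶ x.obj a,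
      χ.base = eqToHom (base_obj x a).symm ∧ χ ≫ x.map (toId a) = restrictHom (obj₀ x) _ :=
  (exists_lift_hom (x.map (toId a)) (restrictHom (obj₀ x) (a.hom ≫ eqToHom (base_obj x (idOver U)).symm))
    (eqToHom (base_obj x a).symm) (by
      rw [← cancel_mono (eqToHom (base_obj x (idOver U))), Category.assoc, map_toId_base, eqToHom_trans_assoc,
        eqToHom_refl, Category.id_comp]
      show a.hom = (a.hom ≫ _) ≫ _
      rw [Category.assoc, eqToHom_trans, eqToHom_refl]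
      exact (Category.comp_id _).symm)).exists

/-- The comparison of a restriction with the value of the functor. -/
def toX (a : (FibCat.overCat U).obj) :
    restrict (obj₀ x) (a.hom ≫ eqToHom (base_obj x (idOver U)).symm) ⟶ x.obj a :=
  (exists_toX x a).choose

theorem toX_base (a : (FibCat.overCat U).obj) : (toX x a).base = eqToHom (base_obj x a).symm :=
  (exists_toX x a).choose_spec.1

theorem toX_comp (a : (FibCat.overCat U).obj) : toX x a ≫ x.map (toId a) = restrictHom (obj₀ x) _ :=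
  (exists_toX x a).choose_spec.2

instance isIso_toX (a : (FibCat.overCat U).obj) : IsIso (toX x a) :=
  have : IsIso (toX x a).base := by rw [toX_base]; infer_instance
  isIso_of_base _

theorem hom_ext_toId {C : AlgSt.SpQuotObj Scheme.fppfPrecoverage G aX} {a : (FibCat.overCat U).obj}
    {p q : C ⟶ x.obj a} (hb : p.base = q.base) (h : p ≫ x.map (toId a) = q ≫ x.map (toId a)) : p = q :=
  (exists_lift_hom (x.map (toId a)) (q ≫ x.map (toId a)) p.base (by rw [hb, AlgSt.SpQuotObj.comp_base])).unique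
    ⟨rfl, h⟩ ⟨hb.symm, rfl⟩

theorem map_toId {a a' : (FibCat.overCat U).obj} (φ : a ⟶ a') :
    x.map φ ≫ x.map (toId a') = x.map (toId a) := by
  rw [← Functor.map_comp]
  congr 1
  exact Over.OverMorphism.ext (Over.w φ)

theorem toX_map {a a' : (FibCat.overCat U).obj} (φ : a ⟶ a') {C : AlgSt.SpQuotObj Scheme.fppfPrecoverage G aX}
    (p : C ⟶ restrict (obj₀ x) (a'.hom ≫ eqToHom (base_obj x (idOver U)).symm))
    (q : C ⟶ restrict (obj₀ x) (a.hom ≫ eqToHom (base_obj x (idOver U)).symm))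
    (hb : p.base = q.base ≫ φ.left) (hc : p ≫ restrictHom (obj₀ x) _ = q ≫ restrictHom (obj₀ x) _) :
    p ≫ toX x a' = q ≫ toX x a ≫ x.map φ := by
  refine hom_ext_toId x ?_ ?_
  · rw [← cancel_mono (eqToHom (base_obj x a'))]
    simp only [AlgSt.SpQuotObj.comp_base, toX_base, Category.assoc, base_map x φ, eqToHom_trans,
      eqToHom_trans_assoc, eqToHom_refl]
    refine (Category.comp_id _).trans (hb.trans (congrArg (q.base ≫ ·) ?_))
    exact (Category.id_comp _).symm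
  · rw [Category.assoc, toX_comp, Category.assoc, Category.assoc, map_toId, toX_comp]
    exact hc

end Lifts

variable (y : FibCat.overCat U ⥤ᵇ FibCat.fp (FibCat.toSelf (AlgSt.SpQuotSt Scheme.fppfPrecoverage G aX))
  (FibCat.toSelf (AlgSt.SpQuotSt Scheme.fppfPrecoverage G aX)))

/-- The first classified functor. -/
abbrev cmp₁ : FibCat.overCat U ⥤ᵇ AlgSt.SpQuotSt Scheme.fppfPrecoverage G aX :=
  BasedFunctor.comp y (FibCat.fpFst _ _)

/-- The second classified functor. -/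
abbrev cmp₂ : FibCat.overCat U ⥤ᵇ AlgSt.SpQuotSt Scheme.fppfPrecoverage G aX :=
  BasedFunctor.comp y (FibCat.fpSnd _ _)

theorem obj_iso_eq (a : (FibCat.overCat U).obj) :
    (y.obj a).obj.iso.hom = eqToHom ((base_obj (cmp₁ y) a).trans (base_obj (cmp₂ y) a).symm) := by
  obtain ⟨e, he⟩ := (overId_of_lift (y.obj a).property).eq
  exact he

variable {y}

/-- The isomorphism of the fibre product with the diagonal. -/
def θ (w : (FibCat.fp y (FibCat.diag (FibCat.toSelf (AlgSt.SpQuotSt Scheme.fppfPrecoverage G aX)))).obj) :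
    (cmp₁ y).obj w.obj.fst ⟶ (cmp₂ y).obj w.obj.fst :=
  w.obj.iso.hom.hom.fst ≫ w.obj.iso.inv.hom.snd

theorem θ_base (w : (FibCat.fp y (FibCat.diag (FibCat.toSelf (AlgSt.SpQuotSt Scheme.fppfPrecoverage G aX)))).obj) :
    (θ w).base = eqToHom ((base_obj (cmp₁ y) w.obj.fst).trans (base_obj (cmp₂ y) w.obj.fst).symm) := by
  have h1 : w.obj.iso.inv.hom.fst.base ≫ (y.obj w.obj.fst).obj.iso.hom =
      𝟙 _ ≫ w.obj.iso.inv.hom.snd.base := w.obj.iso.inv.hom.w
  rw [Category.id_comp] at h1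
  have h2 : w.obj.iso.hom.hom.fst.base ≫ w.obj.iso.inv.hom.fst.base = 𝟙 _ :=
    congrArg (fun z : y.obj w.obj.fst ⟶ y.obj w.obj.fst => z.hom.fst.base) w.obj.iso.hom_inv_id
  rw [θ, AlgSt.SpQuotObj.comp_base, ← h1, reassoc_of% h2]
  exact obj_iso_eq y _

theorem θ_map {w w' : (FibCat.fp y (FibCat.diag (FibCat.toSelf (AlgSt.SpQuotSt Scheme.fppfPrecoverage G aX)))).obj}
    (φ : w ⟶ w') : (cmp₁ y).map φ.hom.fst ≫ θ w' = θ w ≫ (cmp₂ y).map φ.hom.fst := by
  have h1 : (cmp₁ y).map φ.hom.fst ≫ w'.obj.iso.hom.hom.fst = w.obj.iso.hom.hom.fst ≫ φ.hom.snd :=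
    congrArg (fun z : y.obj w.obj.fst ⟶ _ => z.hom.fst) φ.hom.w
  have h2 : w.obj.iso.inv ≫ y.map φ.hom.fst =
      (FibCat.diag (FibCat.toSelf (AlgSt.SpQuotSt Scheme.fppfPrecoverage G aX))).map φ.hom.snd ≫
        w'.obj.iso.inv := by
    rw [Iso.eq_comp_inv, Category.assoc, Iso.inv_comp_eq]
    exact φ.hom.w
  have h2' : w.obj.iso.inv.hom.snd ≫ (cmp₂ y).map φ.hom.fst = φ.hom.snd ≫ w'.obj.iso.inv.hom.snd :=
    congrArg (fun z => z.hom.snd) h2
  rw [θ, θ, reassoc_of% h1, Category.assoc, h2']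

/-- The point of the sheaf of isomorphisms. -/
def diagPt (w : (FibCat.fp y (FibCat.diag (FibCat.toSelf (AlgSt.SpQuotSt Scheme.fppfPrecoverage G aX)))).obj) :
    IsomPt (base_obj (cmp₁ y) (idOver U)) (base_obj (cmp₂ y) (idOver U)) w.obj.fst.left where
  a := w.obj.fst.hom
  h := toX (cmp₁ y) w.obj.fst ≫ θ w ≫ (cmp₂ y).map (toId w.obj.fst)
  base := by
    simp only [AlgSt.SpQuotObj.comp_base, toX_base, θ_base, Category.assoc, map_toId_base]
    simp

theorem glue {𝒞 : Type*} [Category 𝒞] {A B₁ B₂ C₁ C₂ D : 𝒞} {tr : A ⟶ B₂} {p : B₂ ⟶ C₂} {t : A ⟶ B₁}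
    {q : B₁ ⟶ C₁} {φ : C₁ ⟶ C₂} {m' : C₂ ⟶ D} {m : C₁ ⟶ D} (h : tr ≫ p = t ≫ q ≫ φ) (e : φ ≫ m' = m) :
    t ≫ q ≫ m = tr ≫ p ≫ m' := by
  subst e; rw [reassoc_of% h]

theorem diagPt_map {w w' : (FibCat.fp y (FibCat.diag (FibCat.toSelf (AlgSt.SpQuotSt Scheme.fppfPrecoverage G aX)))).obj}
    (φ : w ⟶ w') : (diagPt w').res φ.hom.fst.left = diagPt w :=
  IsomPt.ext' (Over.w φ.hom.fst) fun t ht htc => by
    show t ≫ toX (cmp₁ y) w.obj.fst ≫ θ w ≫ _ = _ ≫ toX (cmp₁ y) w'.obj.fst ≫ θ w' ≫ _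
    have h := toX_map (cmp₁ y) φ.hom.fst (trans (obj₀ (cmp₁ y)) φ.hom.fst.left
      (f := w'.obj.fst.hom ≫ eqToHom (base_obj (cmp₁ y) (idOver U)).symm)
      (f' := (φ.hom.fst.left ≫ w'.obj.fst.hom) ≫ eqToHom (base_obj (cmp₁ y) (idOver U)).symm)
      (Category.assoc _ _ _).symm) t (by rw [trans_base, ht]; exact (Category.id_comp _).symm)
      ((trans_comp _ _ _).trans htc.symm)
    exact glue h (by rw [reassoc_of% (θ_map φ), map_toId])

variable (y) in
/-- The classifying functor of the diagonal. -/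
def diagFun : FibCat.fp y (FibCat.diag (FibCat.toSelf (AlgSt.SpQuotSt Scheme.fppfPrecoverage G aX))) ⥤ᵇ
    Stk.ofPsh (isomPsh (base_obj (cmp₁ y) (idOver U)) (base_obj (cmp₂ y) (idOver U))) where
  toFunctor :=
    { obj := fun w => ⟨w.obj.fst.left, diagPt w⟩
      map := fun {w w'} φ => ⟨φ.hom.fst.left, diagPt_map φ⟩
      map_id := fun w => Stk.EltObj.hom_ext rfl
      map_comp := fun _ _ => Stk.EltObj.hom_ext rfl }
  w := rfl

theorem isIso_hom_fst (w : (FibCat.fp y (FibCat.diag (FibCat.toSelf (AlgSt.SpQuotSt Scheme.fppfPrecoverage G aX)))).obj) :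
    IsIso w.obj.iso.hom.hom.fst :=
  ⟨w.obj.iso.inv.hom.fst, congrArg (fun z => z.hom.fst) w.obj.iso.hom_inv_id,
    congrArg (fun z => z.hom.fst) w.obj.iso.inv_hom_id⟩

theorem faithful_diagFun : (diagFun y).toFunctor.Faithful := ⟨fun {w w' φ φ'} h => by
  have h1 : φ.hom.fst = φ'.hom.fst := Over.OverMorphism.ext (congrArg (fun z => z.hom) h)
  refine fp_ext h1 ?_
  have := isIso_hom_fst w
  have e : ∀ ψ : w ⟶ w', (cmp₁ y).map ψ.hom.fst ≫ w'.obj.iso.hom.hom.fst = w.obj.iso.hom.hom.fst ≫ ψ.hom.snd :=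
    fun ψ => congrArg (fun z : y.obj w.obj.fst ⟶ _ => z.hom.fst) ψ.hom.w
  rw [← cancel_epi w.obj.iso.hom.hom.fst, ← e φ, ← e φ', h1]⟩

set_option maxHeartbeats 800000 in
theorem full_diagFun : (diagFun y).toFunctor.Full := ⟨fun {w w'} m => by
  let k : w.obj.fst.left ⟶ w'.obj.fst.left := m.hom
  have hm : (diagPt w').res k = diagPt w := m.map_sec
  let φ : w.obj.fst ⟶ w'.obj.fst := Over.homMk k (congrArg (fun z => z.a) hm)
  have hθ : (cmp₁ y).map φ ≫ θ w' = θ w ≫ (cmp₂ y).map φ := by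
    refine hom_ext_toId (cmp₂ y) ?_ ?_
    · rw [← cancel_mono (eqToHom (base_obj (cmp₂ y) w'.obj.fst))]
      simp only [AlgSt.SpQuotObj.comp_base, θ_base, Category.assoc, eqToHom_trans, base_map (cmp₁ y) φ,
        base_map (cmp₂ y) φ, eqToHom_trans_assoc]
    · have hf : 𝟙 w.obj.fst.left ≫ w.obj.fst.hom ≫ eqToHom (base_obj (cmp₁ y) (idOver U)).symm =
          (k ≫ w'.obj.fst.hom) ≫ eqToHom (base_obj (cmp₁ y) (idOver U)).symm :=
        (Category.id_comp _).trans (congrArg (· ≫ eqToHom _) (congrArg (fun z => z.a) hm).symm)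
      let t := trans (obj₀ (cmp₁ y)) (𝟙 w.obj.fst.left) hf
      have h := IsomPt.h_eq hm t (trans_base _ _ _) (trans_comp _ _ _)
      change t ≫ toX (cmp₁ y) w.obj.fst ≫ θ w ≫ _ = _ ≫ toX (cmp₁ y) w'.obj.fst ≫ θ w' ≫ _ at h
      have h' := toX_map (cmp₁ y) φ (trans (obj₀ (cmp₁ y)) k
        (f := w'.obj.fst.hom ≫ eqToHom (base_obj (cmp₁ y) (idOver U)).symm)
        (f' := (k ≫ w'.obj.fst.hom) ≫ eqToHom (base_obj (cmp₁ y) (idOver U)).symm) (Category.assoc _ _ _).symm) t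
        (by rw [trans_base, trans_base]; exact (Category.id_comp _).symm) ((trans_comp _ _ _).trans (trans_comp _ _ _).symm)
      rw [reassoc_of% h'] at h
      have : IsIso t := by
        have : IsIso t.base := by rw [show t.base = 𝟙 _ from trans_base _ _ _]; exact IsIso.id _
        exact isIso_of_base t
      rw [cancel_epi, cancel_epi] at h
      rw [Category.assoc, Category.assoc, map_toId]
      exact h.symm
  have := isIso_hom_fst w
  let ψ : w.obj.snd ⟶ w'.obj.snd := inv w.obj.iso.hom.hom.fst ≫ (cmp₁ y).map φ ≫ w'.obj.iso.hom.hom.fst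
  refine ⟨fpHom φ ψ (fp_ext ?_ ?_), Stk.EltObj.hom_ext rfl⟩
  · show (cmp₁ y).map φ ≫ w'.obj.iso.hom.hom.fst = w.obj.iso.hom.hom.fst ≫ ψ
    simp [ψ]
  · show (cmp₂ y).map φ ≫ w'.obj.iso.hom.hom.snd = w.obj.iso.hom.hom.snd ≫ ψ
    have e1 : ∀ v : (FibCat.fp y (FibCat.diag (FibCat.toSelf (AlgSt.SpQuotSt Scheme.fppfPrecoverage G aX)))).obj,
        w'.obj.iso.inv.hom.snd ≫ w'.obj.iso.hom.hom.snd = 𝟙 _ ∧
          w.obj.iso.hom.hom.snd ≫ w.obj.iso.inv.hom.snd = 𝟙 _ := fun _ =>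
      ⟨congrArg (fun z => z.hom.snd) w'.obj.iso.inv_hom_id, congrArg (fun z => z.hom.snd) w.obj.iso.hom_inv_id⟩
    obtain ⟨i', i⟩ := e1 w
    have hθ' := congrArg (fun z => w.obj.iso.hom.hom.snd ≫ inv w.obj.iso.hom.hom.fst ≫ z ≫ w'.obj.iso.hom.hom.snd) hθ
    simp only [θ, Category.assoc, IsIso.inv_hom_id_assoc, reassoc_of% i] at hθ'
    erw [i', Category.comp_id] at hθ'
    exact hθ'.symm⟩

theorem essSurj_diagFun
    (z : (Stk.ofPsh (isomPsh (base_obj (cmp₁ y) (idOver U)) (base_obj (cmp₂ y) (idOver U)))).obj) :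
    ∃ (w : (FibCat.fp y (FibCat.diag (FibCat.toSelf (AlgSt.SpQuotSt Scheme.fppfPrecoverage G aX)))).obj)
      (e : (diagFun y).obj w ≅ z), OverId e.hom := by
  let x : IsomPt (base_obj (cmp₁ y) (idOver U)) (base_obj (cmp₂ y) (idOver U)) z.base := z.sec
  let a : (FibCat.overCat U).obj := Over.mk x.a
  obtain ⟨θ₀, hb, hθ⟩ := (exists_lift_hom ((cmp₂ y).map (toId a)) (inv (toX (cmp₁ y) a) ≫ x.h)
    (eqToHom ((base_obj (cmp₁ y) a).trans (base_obj (cmp₂ y) a).symm)) (by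
      have h := congrArg (fun z => z.base) (IsIso.inv_hom_id (toX (cmp₁ y) a))
      simp only [AlgSt.SpQuotObj.comp_base, toX_base, AlgSt.SpQuotObj.id_base] at h
      rw [AlgSt.SpQuotObj.comp_base, (comp_eqToHom_iff _ _ _).1 h, ← cancel_mono (eqToHom (base_obj (cmp₂ y) (idOver U))),
        Category.assoc, Category.assoc, map_toId_base, eqToHom_trans_assoc, x.base]
      simp
      rfl)).exists
  have : IsIso θ₀.base := by rw [hb]; infer_instance
  have := isIso_of_base θ₀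
  have hinv : (inv θ₀).base = eqToHom ((base_obj (cmp₂ y) a).trans (base_obj (cmp₁ y) a).symm) := by
    have h : (inv θ₀).base ≫ θ₀.base = 𝟙 _ := congrArg (fun z => z.base) (IsIso.inv_hom_id θ₀)
    rw [hb] at h
    exact ((comp_eqToHom_iff _ _ _).1 h).trans (Category.id_comp _)
  let i : y.obj a ≅ (FibCat.diag (FibCat.toSelf (AlgSt.SpQuotSt Scheme.fppfPrecoverage G aX))).obj ((cmp₁ y).obj a) :=
    fpIsoMk (Iso.refl _) (asIso θ₀).symm (by
      show (𝟙 ((cmp₁ y).obj a) : _ ⟶ _).base ≫ 𝟙 _ = (y.obj a).obj.iso.hom ≫ (inv θ₀).base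
      rw [obj_iso_eq, hinv, eqToHom_trans, eqToHom_refl]
      exact Category.comp_id _)
  let w : (FibCat.fp y (FibCat.diag (FibCat.toSelf (AlgSt.SpQuotSt Scheme.fppfPrecoverage G aX)))).obj :=
    ⟨⟨a, (cmp₁ y).obj a, i⟩, (overId_fp i.hom (overId_id _)).lift (y.w_obj a)⟩
  have key : diagPt w = x := IsomPt.ext' rfl fun t ht htc => by
    rw [hom_restrict_ext (a := t) (b := 𝟙 _) ht (htc.trans (Category.id_comp _).symm), Category.id_comp]
    show x.h = toX (cmp₁ y) a ≫ (𝟙 ((cmp₁ y).obj a) ≫ θ₀) ≫ (cmp₂ y).map (toId a)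
    rw [Category.id_comp, hθ, IsIso.hom_inv_id_assoc]
  refine ⟨w, eltIso rfl ?_, eltIso_overId _ _⟩
  show (isomPsh _ _).map (𝟙 (op z.base)) z.sec = diagPt w
  rw [key, CategoryTheory.Functor.map_id]
  rfl

theorem isEquivOver_diagFun : FibCat.IsEquivOver (diagFun y) :=
  have := faithful_diagFun (y := y)
  have := full_diagFun (y := y)
  isEquivOver_of_overId _ essSurj_diagFun

variable (y) in
theorem isSheaf_isomPsh :
    Presieve.IsSheaf (J S) (isomPsh (base_obj (cmp₁ y) (idOver U)) (base_obj (cmp₂ y) (idOver U))) := by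
  have hB := isStack_spQuotSt (G := G) (aX := aX)
  have pre : ∀ {𝒳 : BasedCategory.{u, u + 1} (Over S)}, Stk.IsStack (J S) 𝒳 → Stk.IsPrestack (J S) 𝒳 :=
    fun h => ⟨h.1, fun _ R hR => have : (Stk.resSieve R _).IsEquivalence := h.2 R hR; ⟨inferInstance, inferInstance⟩⟩
  have h3 := isStack_fp (F := FibCat.toSelf (AlgSt.SpQuotSt Scheme.fppfPrecoverage G aX))
    (G := FibCat.toSelf (AlgSt.SpQuotSt Scheme.fppfPrecoverage G aX)) hB hB
    (pre (isStack_of_repByAlgSp selfOver_repByAlgSp))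
  refine (isStack_ofPsh_iff _).1 ((L09.Fib.isStack_iff _ (isEquivOver_diagFun (y := y))).1
    (isStack_fp (isStack_overCat U) hB ⟨h3.1, fun _ R hR => ?_⟩))
  have : (Stk.resSieve R _).IsEquivalence := h3.2 R hR
  exact ⟨inferInstance, inferInstance⟩

theorem wit_diag (hB : IsAlgSpace B) (hG : IsAlgSpace G.left)
    (hone : ∀ (T : Over S) (a b : (yon S).obj T ⟶ B), a = b) (toTerm : ∀ Y : Over B, Subsingleton (Y ⟶ X))
    (P : MorphismProperty (Sp S)) (hPB : PBase P) (hloc : AlgSp.IsLocalOnBase AlgSp.IsFppfCover P)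
    (hP : P G.hom) : Wit P y (FibCat.diag (FibCat.toSelf (AlgSt.SpQuotSt Scheme.fppfPrecoverage G aX))) := by
  obtain ⟨hF, hq⟩ := isAlgSpace_and_prop_isom hB hG hone toTerm P hPB hloc hP (isSheaf_isomPsh y)
  refine wit_of_classifier (F := ⟨isomSheaf _ _ (isSheaf_isomPsh y), hF⟩) (isomSheafπ _ _ (isSheaf_isomPsh y))
    (diagFun y) isEquivOver_diagFun (fun w => ?_) hq
  rw [secAt_ofPshMap_comp]
  show (isomπ _ _).app _ ((isomPsh _ _).map (eqToHom (rfl : w.obj.fst.left = w.obj.fst.left)).op (diagPt w)) =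
    ((yon S).obj U).obj.map (eqToHom (rfl : w.obj.fst.left = w.obj.fst.left)).op (ULift.up w.obj.fst.hom)
  simp only [eqToHom_refl, op_id, CategoryTheory.Functor.map_id]
  rfl

end Groth.L24.Tors
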