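import Groth.Agent.L24.Tors.Points
import Groth.Agent.L24.Tors.StackProof

/-!
The presheaf of isomorphisms between two torsors.
-/

set_option autoImplicit false
set_option backward.isDefEq.respectTransparency false
set_option backward.isDefEq.respectTransparency.types false

universe u

open CategoryTheory CategoryTheory.Limits MonoidalCategory CartesianMonoidalCategory AlgebraicGeometry AlgSp Opposite

noncomputable section

namespace Groth.L24.Tors

variable {S : Scheme.{u}} {B : Sp S} {G : Over B} [GrpObj G] {X : Over B} {aX : AlgSp.GAction G X}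
  {A₁ A₂ : AlgSt.SpQuotObj Scheme.fppfPrecoverage G aX}

/-- Morphisms into a restriction are determined by their composite with the projection. -/
theorem hom_restrict_ext {C A : AlgSt.SpQuotObj Scheme.fppfPrecoverage G aX} {T : Over S} {f : T ⟶ A.base}
    {a b : C ⟶ restrict A f} (hb : a.base = b.base) (h : a ≫ restrictHom A f = b ≫ restrictHom A f) : a = b :=
  (exists_lift_hom (restrictHom A f) (a ≫ restrictHom A f) a.base rfl).unique ⟨rfl, rfl⟩ ⟨hb.symm, h.symm⟩

/-- The transition map between restrictions. -/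
def trans (A : AlgSt.SpQuotObj Scheme.fppfPrecoverage G aX) {T' T : Over S} (k : T' ⟶ T) {f : T ⟶ A.base}
    {f' : T' ⟶ A.base} (e : k ≫ f = f') : restrict A f' ⟶ restrict A f :=
  (exists_lift_hom (restrictHom A f) (restrictHom A f') k e).exists.choose

theorem trans_base (A : AlgSt.SpQuotObj Scheme.fppfPrecoverage G aX) {T' T : Over S} (k : T' ⟶ T)
    {f : T ⟶ A.base} {f' : T' ⟶ A.base} (e : k ≫ f = f') : (trans A k e).base = k :=
  (exists_lift_hom (restrictHom A f) (restrictHom A f') k e).exists.choose_spec.1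

theorem trans_comp (A : AlgSt.SpQuotObj Scheme.fppfPrecoverage G aX) {T' T : Over S} (k : T' ⟶ T)
    {f : T ⟶ A.base} {f' : T' ⟶ A.base} (e : k ≫ f = f') : trans A k e ≫ restrictHom A f = restrictHom A f' :=
  (exists_lift_hom (restrictHom A f) (restrictHom A f') k e).exists.choose_spec.2

theorem trans_id (A : AlgSt.SpQuotObj Scheme.fppfPrecoverage G aX) {T : Over S} {f : T ⟶ A.base}
    (e : 𝟙 T ≫ f = f) : trans A (𝟙 T) e = 𝟙 _ :=
  hom_restrict_ext (trans_base A _ e) ((trans_comp A _ e).trans (Category.id_comp _).symm)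

theorem trans_trans (A : AlgSt.SpQuotObj Scheme.fppfPrecoverage G aX) {T'' T' T : Over S} (l : T'' ⟶ T')
    (k : T' ⟶ T) {f : T ⟶ A.base} {f' : T' ⟶ A.base} {f'' : T'' ⟶ A.base} (e : k ≫ f = f') (e' : l ≫ f' = f'')
    (e'' : (l ≫ k) ≫ f = f'') : trans A l e' ≫ trans A k e = trans A (l ≫ k) e'' := by
  refine hom_restrict_ext ?_ ?_
  · rw [AlgSt.SpQuotObj.comp_base, trans_base, trans_base, trans_base]
  · rw [Category.assoc, trans_comp, trans_comp, trans_comp]

variable {U : Over S} (e₁ : A₁.base = U) (e₂ : A₂.base = U)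

/-- A point of the presheaf of isomorphisms. -/
structure IsomPt (T : Over S) : Type (u + 1) where
  /-- the point of the base -/
  a : T ⟶ U
  /-- the morphism of torsors -/
  h : restrict A₁ (a ≫ eqToHom e₁.symm) ⟶ A₂
  base : h.base ≫ eqToHom e₂ = a

variable {e₁ e₂}

theorem IsomPt.ext' {T : Over S} {x y : IsomPt e₁ e₂ T} (e : x.a = y.a)
    (h : ∀ t : restrict A₁ (x.a ≫ eqToHom e₁.symm) ⟶ restrict A₁ (y.a ≫ eqToHom e₁.symm), t.base = 𝟙 T →
      t ≫ restrictHom A₁ _ = restrictHom A₁ _ → t ≫ y.h = x.h) : x = y := by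
  cases x with
  | mk a p hp =>
    cases y with
    | mk b q hq =>
      dsimp only at e h
      subst e
      obtain rfl : q = p := (Category.id_comp q).symm.trans (h (𝟙 _) rfl (Category.id_comp _))
      rfl

/-- Restriction of points. -/
def IsomPt.res {T' T : Over S} (k : T' ⟶ T) (x : IsomPt e₁ e₂ T) : IsomPt e₁ e₂ T' where
  a := k ≫ x.a
  h := trans A₁ k (Category.assoc _ _ _).symm ≫ x.h
  base := by
    rw [AlgSt.SpQuotObj.comp_base, trans_base]
    exact (Category.assoc _ _ _).trans (congrArg (k ≫ ·) x.base)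

theorem IsomPt.res_id {T : Over S} (x : IsomPt e₁ e₂ T) : x.res (𝟙 T) = x :=
  IsomPt.ext' (Category.id_comp _) fun t ht htc => by
    show t ≫ x.h = trans A₁ _ _ ≫ x.h
    congr 1
    exact hom_restrict_ext (ht.trans (trans_base A₁ _ _).symm) (htc.trans (trans_comp A₁ _ _).symm)

theorem IsomPt.res_res {T'' T' T : Over S} (l : T'' ⟶ T') (k : T' ⟶ T) (x : IsomPt e₁ e₂ T) :
    (x.res k).res l = x.res (l ≫ k) :=
  IsomPt.ext' (Category.assoc _ _ _).symm fun t ht htc => by
    show t ≫ trans A₁ _ _ ≫ x.h = trans A₁ _ _ ≫ trans A₁ _ _ ≫ x.h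
    rw [← Category.assoc, ← Category.assoc (trans A₁ l _)]
    congr 1
    refine hom_restrict_ext ?_ ?_
    · rw [AlgSt.SpQuotObj.comp_base, AlgSt.SpQuotObj.comp_base, ht, trans_base, trans_base, trans_base]
      exact Category.id_comp _
    · rw [Category.assoc, trans_comp, htc, Category.assoc, trans_comp, trans_comp]

variable (e₁ e₂)

/-- The presheaf of isomorphisms. -/
def isomPsh : AlgSp.PSp S where
  obj T := IsomPt e₁ e₂ T.unop
  map k := ↾fun x => x.res k.unop
  map_id T := by ext x; exact IsomPt.res_id x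
  map_comp k l := by ext x; exact (IsomPt.res_res l.unop k.unop x).symm

/-- Its map to the base. -/
def isomπ : isomPsh e₁ e₂ ⟶ ((yon S).obj U).obj where
  app T := ↾fun x => ULift.up x.a
  naturality T T' k := by ext x; rfl

end Groth.L24.Tors
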