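import Groth.Agent.L24.Tors.Glue

/-!
Maps out of a sheaf assembled from its members over a covering sieve.
-/

set_option autoImplicit false
set_option backward.isDefEq.respectTransparency.types false

universe u

open CategoryTheory CategoryTheory.Limits AlgebraicGeometry Opposite AlgSp

noncomputable section

namespace Groth.L24.Tors

variable {S : Scheme.{u}} {U : Over S} {Z Q : Sp S} {q : Z ⟶ (yon S).obj U} {R : Sieve U}
  {Zm : ∀ ⦃W : Over S⦄ (g : W ⟶ U), R g → Sp S}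
  {pm : ∀ ⦃W : Over S⦄ (g : W ⟶ U) (hg : R g), Zm g hg ⟶ (yon S).obj W}
  {j : ∀ ⦃W : Over S⦄ (g : W ⟶ U) (hg : R g), Zm g hg ⟶ Z}

/-- Maps agree if they agree on every member. -/
theorem hom_ext_members (hR : R ∈ J S U)
    (hj : ∀ ⦃W : Over S⦄ (g : W ⟶ U) (hg : R g), IsPullback (j g hg) (pm g hg) q ((yon S).map g))
    {a b : Z ⟶ Q} (h : ∀ ⦃W : Over S⦄ (g : W ⟶ U) (hg : R g), j g hg ≫ a = j g hg ≫ b) : a = b :=
  hom_ext_over q hR fun W g hg p hp => by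
    obtain ⟨l, hl, -⟩ : ∃ l, l ≫ j g hg = p ∧ l ≫ pm g hg = 𝟙 _ :=
      ⟨(hj g hg).lift p (𝟙 _) (by rw [hp, Category.id_comp]), (hj g hg).lift_fst _ _ _, (hj g hg).lift_snd _ _ _⟩
    rw [← hl, Category.assoc, Category.assoc, h g hg]

/-- Compatible maps on the members assemble. -/
theorem exists_glue_members (hR : R ∈ J S U)
    (hj : ∀ ⦃W : Over S⦄ (g : W ⟶ U) (hg : R g), IsPullback (j g hg) (pm g hg) q ((yon S).map g))
    (θ : ∀ ⦃W : Over S⦄ (g : W ⟶ U) (hg : R g), Zm g hg ⟶ Q)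
    (hθ : ∀ ⦃W' W : Over S⦄ (k : W' ⟶ W) (g : W ⟶ U) (g' : W' ⟶ U) (hg : R g) (hg' : R g'), k ≫ g = g' →
      ∃ t : Zm g' hg' ⟶ Zm g hg,
        t ≫ j g hg = j g' hg' ∧ t ≫ pm g hg = pm g' hg' ≫ (yon S).map k ∧ t ≫ θ g hg = θ g' hg') :
    ∃ h : Z ⟶ Q, ∀ ⦃W : Over S⦄ (g : W ⟶ U) (hg : R g), j g hg ≫ h = θ g hg := by
  let φ : ∀ ⦃W : Over S⦄ (g : W ⟶ U), R g → ∀ p : (yon S).obj W ⟶ Z, p ≫ q = (yon S).map g →
      ((yon S).obj W ⟶ Q) := fun W g hg p hp =>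
    (hj g hg).lift p (𝟙 _) (by rw [hp, Category.id_comp]) ≫ θ g hg
  obtain ⟨h, hh⟩ := exists_glue_over q hR φ fun W W' g hg p hp k => by
    obtain ⟨t, h1, h2, h3⟩ := hθ k g (k ≫ g) hg (R.downward_closed hg k) rfl
    simp only [φ]
    rw [← h3, ← Category.assoc, ← Category.assoc]
    congr 1
    apply (hj g hg).hom_ext
    · rw [Category.assoc, (hj g hg).lift_fst, Category.assoc, h1, (hj _ _).lift_fst]
    · rw [Category.assoc, (hj g hg).lift_snd, Category.comp_id, Category.assoc, h2, ← Category.assoc,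
        (hj _ _).lift_snd, Category.id_comp]
  refine ⟨h, fun W g hg => Groth.L23.hom_ext_yon fun T x => ?_⟩
  obtain ⟨k, hk⟩ := (yon S).map_surjective (x ≫ pm g hg)
  obtain ⟨t, h1, h2, h3⟩ := hθ k g (k ≫ g) hg (R.downward_closed hg k) rfl
  have hp : (x ≫ j g hg) ≫ q = (yon S).map (k ≫ g) := by
    rw [Category.assoc, (hj g hg).w, ← Category.assoc, ← hk, Functor.map_comp]
  rw [← Category.assoc, hh (k ≫ g) (R.downward_closed hg k) _ hp]
  simp only [φ]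
  rw [← h3, ← Category.assoc]
  congr 1
  apply (hj g hg).hom_ext
  · rw [Category.assoc, h1, (hj _ _).lift_fst]
  · rw [Category.assoc, h2, ← Category.assoc, (hj _ _).lift_snd, Category.id_comp, hk]

end Groth.L24.Tors
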