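import Groth.Agent.L24.Tors.BGRep
import Groth.Prelude.Def_AlgSt5

/-!
Schemes over `S` as sheaves over the sheaf of `S`.
-/

set_option autoImplicit false
set_option backward.isDefEq.respectTransparency false
set_option backward.isDefEq.respectTransparency.types false

universe u

open CategoryTheory CategoryTheory.Limits MonoidalCategory CartesianMonoidalCategory MonObj AlgebraicGeometry AlgSp Opposite

noncomputable section

namespace Groth.L24.Tors

variable {S : Scheme.{u}}

/-- The terminal sheaf. -/
abbrev one (S : Scheme.{u}) : Sp S := (yon S).obj (Over.mk (𝟙 S))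

theorem hom_one_subsingleton {F : Sp S} (a b : F ⟶ one S) : a = b := by
  apply ObjectProperty.hom_ext
  ext T x
  exact sec_one_subsingleton (T := T.unop) _ _

/-- The structure map to the terminal sheaf. -/
def toOne (X : Over S) : (yon S).obj X ⟶ one S := (yon S).map (Over.homMk X.hom (Category.comp_id _))

/-- Morphisms of sheaves over the terminal sheaf are morphisms of sheaves. -/
def overOneHom {F F' : Over (one S)} (f : F.left ⟶ F'.left) : F ⟶ F' := Over.homMk f (hom_one_subsingleton _ _)

variable (S) in
/-- Schemes over `S` as sheaves over the terminal sheaf. -/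
def schSp : Over S ⥤ Over (one S) where
  obj X := Over.mk (toOne X)
  map f := overOneHom ((yon S).map f)
  map_id X := Over.OverMorphism.ext ((yon S).map_id X)
  map_comp f g := Over.OverMorphism.ext ((yon S).map_comp f g)

theorem schSp_map_left {X Y : Over S} (f : X ⟶ Y) : ((schSp S).map f).left = (yon S).map f := rfl

instance : (schSp S).Faithful := ⟨fun {X Y f g} h => (yon S).map_injective (congrArg (fun z => z.left) h)⟩

instance : (schSp S).Full := ⟨fun {X Y} f => ⟨(yon S).preimage f.left,
  Over.OverMorphism.ext ((yon S).map_preimage _)⟩⟩

instance preservesLimit_schSp (K : WalkingCospan ⥤ Over S) : PreservesLimit K (schSp S) := by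
  have : PreservesLimit K (schSp S ⋙ Over.forget (one S)) := inferInstanceAs (PreservesLimit K (yon S))
  exact preservesLimit_of_reflects_of_preserves (schSp S) (Over.forget (one S))

theorem isPullback_prod (X Y : Over S) :
    IsPullback ((yon S).map (fst X Y)) ((yon S).map (snd X Y)) (toOne X) (toOne Y) := by
  have h := (AlgSt.isPullback_fst_snd X Y).map (yon S)
  refine h.of_iso (Iso.refl _) (Iso.refl _) (Iso.refl _)
    ((yon S).mapIso ((isTerminalTensorUnit (C := Over S)).uniqueUpToIso Over.mkIdTerminal)) ?_ ?_ ?_ ?_
  · simp
  · simp
  · exact hom_one_subsingleton _ _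
  · exact hom_one_subsingleton _ _

instance isIso_prodComparison_schSp (X Y : Over S) : IsIso (CartesianMonoidalCategory.prodComparison (schSp S) X Y) := by
  have : IsIso ((Over.forget (one S)).map (CartesianMonoidalCategory.prodComparison (schSp S) X Y)) := by
    refine ⟨(isPullback_prod X Y).lift (fst ((schSp S).obj X) ((schSp S).obj Y)).left
      (snd ((schSp S).obj X) ((schSp S).obj Y)).left (hom_one_subsingleton _ _), ?_, ?_⟩
    · apply (isPullback_prod X Y).hom_ext
      · rw [Category.assoc, IsPullback.lift_fst, Category.id_comp, Over.forget_map, ← Over.comp_left,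
          CartesianMonoidalCategory.prodComparison_fst, schSp_map_left]
      · rw [Category.assoc, IsPullback.lift_snd, Category.id_comp, Over.forget_map, ← Over.comp_left,
          CartesianMonoidalCategory.prodComparison_snd, schSp_map_left]
    · apply (isPullback_tensor_left ((schSp S).obj X) ((schSp S).obj Y)).hom_ext
      · rw [Category.assoc, Over.forget_map, ← Over.comp_left, CartesianMonoidalCategory.prodComparison_fst, schSp_map_left,
          IsPullback.lift_fst]
        exact (Category.id_comp _).symm
      · rw [Category.assoc, Over.forget_map, ← Over.comp_left, CartesianMonoidalCategory.prodComparison_snd, schSp_map_left,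
          IsPullback.lift_snd]
        exact (Category.id_comp _).symm
  exact isIso_of_reflects_iso _ (Over.forget (one S))

instance isIso_terminalComparison_schSp : IsIso (CartesianMonoidalCategory.terminalComparison (schSp S)) := by
  let i := (isTerminalTensorUnit (C := Over S)).uniqueUpToIso Over.mkIdTerminal
  have : IsIso ((Over.forget (one S)).map (CartesianMonoidalCategory.terminalComparison (schSp S))) :=
    ⟨((yon S).mapIso i).inv, (cancel_mono ((yon S).mapIso i).hom).1 (hom_one_subsingleton _ _), hom_one_subsingleton _ _⟩
  exact isIso_of_reflects_iso _ (Over.forget (one S))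

instance : (schSp S).OplaxMonoidal := Functor.OplaxMonoidal.ofChosenFiniteProducts _

instance (X Y : Over S) : IsIso (Functor.OplaxMonoidal.δ (schSp S) X Y) :=
  inferInstanceAs (IsIso (CartesianMonoidalCategory.prodComparison (schSp S) X Y))

instance : IsIso (Functor.OplaxMonoidal.η (schSp S)) := inferInstanceAs (IsIso (CartesianMonoidalCategory.terminalComparison (schSp S)))

instance : (schSp S).Monoidal := Functor.Monoidal.ofOplaxMonoidal _

/-- The group sheaf of a group scheme. -/
instance grpObj_schSp (G : Over S) [GrpObj G] : GrpObj ((schSp S).obj G) := Functor.grpObjObj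

/-- The action sheaf of an action. -/
def schAction {G X : Over S} [GrpObj G] (a : AlgGrp.Action G X) :
    AlgSp.GAction ((schSp S).obj G) ((schSp S).obj X) where
  act := Functor.LaxMonoidal.μ (schSp S) G X ≫ (schSp S).map a.act
  one_act := by
    show ((Functor.LaxMonoidal.ε (schSp S) ≫ (schSp S).map η[G]) ▷ _) ≫ _ = _
    rw [comp_whiskerRight, Category.assoc, Functor.LaxMonoidal.μ_natural_left_assoc, ← Functor.map_comp, a.one_act]
    simp
  mul_act := by
    show ((Functor.LaxMonoidal.μ (schSp S) G G ≫ (schSp S).map μ[G]) ▷ _) ≫ _ = _
    rw [comp_whiskerRight, Category.assoc, Functor.LaxMonoidal.μ_natural_left_assoc, ← Functor.map_comp, a.mul_act,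
      MonoidalCategory.whiskerLeft_comp, Category.assoc, Functor.LaxMonoidal.μ_natural_right_assoc]
    simp

end Groth.L24.Tors
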