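import Groth.Prelude.Def_AlgSt6
import Groth.Prelude.Def_AlgSpRep
import Groth.Agent.L23.Basic
import Mathlib.CategoryTheory.Sites.Sheafification
import Mathlib.CategoryTheory.Limits.Types.Pullbacks

/-!
Descent of sheaves along a covering sieve of a scheme.
-/

set_option autoImplicit false
set_option backward.isDefEq.respectTransparency.types false

universe u

open CategoryTheory CategoryTheory.Limits AlgebraicGeometry Opposite AlgSp

noncomputable section

namespace Groth.L24.Tors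

variable {S : Scheme.{u}} {U : Over S}

/-- A family of sheaves over the members of a sieve with cartesian transition maps. -/
structure SheafFam (R : Sieve U) where
  /-- the sheaf over a member -/
  F : ∀ ⦃W : Over S⦄ (g : W ⟶ U), R g → Sp S
  /-- the structure map -/
  π : ∀ ⦃W : Over S⦄ (g : W ⟶ U) (hg : R g), F g hg ⟶ (yon S).obj W
  /-- the transition map -/
  map : ∀ ⦃W' W : Over S⦄ (k : W' ⟶ W) (g : W ⟶ U) (g' : W' ⟶ U) (hg : R g) (hg' : R g'),
    k ≫ g = g' → (F g' hg' ⟶ F g hg)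
  cart : ∀ ⦃W' W : Over S⦄ (k : W' ⟶ W) (g : W ⟶ U) (g' : W' ⟶ U) (hg : R g) (hg' : R g') (e : k ≫ g = g'),
    IsPullback (map k g g' hg hg' e) (π g' hg') (π g hg) ((yon S).map k)
  map_comp : ∀ ⦃W'' W' W : Over S⦄ (l : W'' ⟶ W') (k : W' ⟶ W) (g : W ⟶ U) (g' : W' ⟶ U) (g'' : W'' ⟶ U)
    (hg : R g) (hg' : R g') (hg'' : R g'') (e : k ≫ g = g') (e' : l ≫ g' = g'') (e'' : (l ≫ k) ≫ g = g''),
    map l g' g'' hg' hg'' e' ≫ map k g g' hg hg' e = map (l ≫ k) g g'' hg hg'' e''

namespace SheafFam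

variable {R : Sieve U} (D : SheafFam R)

theorem map_id ⦃W : Over S⦄ (g : W ⟶ U) (hg : R g) (e : 𝟙 W ≫ g = g) : D.map (𝟙 W) g g hg hg e = 𝟙 _ := by
  have sq := D.cart (𝟙 W) g g hg hg e
  have : IsIso ((yon S).map (𝟙 W)) := inferInstance
  have : IsIso (D.map (𝟙 W) g g hg hg e) := sq.isIso_fst_of_isIso
  have h := D.map_comp (𝟙 W) (𝟙 W) g g g hg hg hg e e (by simp)
  rw [← cancel_epi (D.map (𝟙 W) g g hg hg e), Category.comp_id, h]
  congr 1

/-- A point of the glued presheaf over `T`. -/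
structure Pt (T : Over S) : Type (u + 1) where
  /-- the map to the base -/
  g : T ⟶ U
  /-- it lies in the sieve -/
  mem : R g
  /-- the point of the member over it -/
  p : (yon S).obj T ⟶ D.F g mem
  over : p ≫ D.π g mem = 𝟙 _

variable {D}

/-- Two points agree once their images in one member agree. -/
theorem Pt.ext_map {T : Over S} {x y : D.Pt T} {W : Over S} (k : T ⟶ W) (g : W ⟶ U) (hg : R g)
    (ex : k ≫ g = x.g) (ey : k ≫ g = y.g)
    (h : x.p ≫ D.map k g x.g hg x.mem ex = y.p ≫ D.map k g y.g hg y.mem ey) : x = y := by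
  cases x with
  | mk gx hgx p hp =>
    cases y with
    | mk gy hgy q hq =>
      dsimp only at ex ey h ⊢
      subst ex ey
      obtain rfl : p = q := (D.cart k g (k ≫ g) hg hgx rfl).hom_ext h (hp.trans hq.symm)
      rfl

variable (D)

/-- The point given by a point of a member. -/
def ofPoint {T W : Over S} (k : T ⟶ W) (g : W ⟶ U) (hg : R g) (x : (yon S).obj T ⟶ D.F g hg)
    (hx : x ≫ D.π g hg = (yon S).map k) : D.Pt T where
  g := k ≫ g
  mem := R.downward_closed hg k
  p := (D.cart k g (k ≫ g) hg (R.downward_closed hg k) rfl).lift x (𝟙 _) (by rw [hx, Category.id_comp])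
  over := IsPullback.lift_snd _ _ _ _

theorem ofPoint_map {T W : Over S} (k : T ⟶ W) (g : W ⟶ U) (hg : R g) (x : (yon S).obj T ⟶ D.F g hg)
    (hx : x ≫ D.π g hg = (yon S).map k) :
    (D.ofPoint k g hg x hx).p ≫ D.map k g (k ≫ g) hg (R.downward_closed hg k) rfl = x :=
  IsPullback.lift_fst _ _ _ _

theorem ofPoint_congr {T W : Over S} {k k' : T ⟶ W} (g : W ⟶ U) (hg : R g)
    {x x' : (yon S).obj T ⟶ D.F g hg} (hx : x ≫ D.π g hg = (yon S).map k)
    (hx' : x' ≫ D.π g hg = (yon S).map k') (e : x = x') : D.ofPoint k g hg x hx = D.ofPoint k' g hg x' hx' := by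
  subst e
  obtain rfl : k = k' := (yon S).map_injective (hx.symm.trans hx')
  rfl

variable {D}

/-- Restriction of points. -/
def Pt.res {T' T : Over S} (k : T' ⟶ T) (x : D.Pt T) : D.Pt T' :=
  D.ofPoint k x.g x.mem ((yon S).map k ≫ x.p) (by rw [Category.assoc, x.over, Category.comp_id])

theorem Pt.res_map {T' T : Over S} (k : T' ⟶ T) (x : D.Pt T) :
    (x.res k).p ≫ D.map k x.g (k ≫ x.g) x.mem (R.downward_closed x.mem k) rfl = (yon S).map k ≫ x.p :=
  D.ofPoint_map _ _ _ _ _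

theorem Pt.res_id {T : Over S} (x : D.Pt T) : x.res (𝟙 T) = x := by
  refine Pt.ext_map (𝟙 T) x.g x.mem rfl (Category.id_comp _) ((Pt.res_map (𝟙 T) x).trans ?_)
  rw [D.map_id, Category.comp_id, (yon S).map_id, Category.id_comp]

theorem Pt.map_map {T'' T' T : Over S} (l : T'' ⟶ T') (k : T' ⟶ T) (g : T ⟶ U) (g' : T' ⟶ U) (g'' : T'' ⟶ U)
    (hg : R g) (hg' : R g') (hg'' : R g'') (e : k ≫ g = g') (e' : l ≫ g' = g'') (e'' : (l ≫ k) ≫ g = g'')
    (q : (yon S).obj T'' ⟶ D.F g'' hg'') :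
    q ≫ D.map (l ≫ k) g g'' hg hg'' e'' = (q ≫ D.map l g' g'' hg' hg'' e') ≫ D.map k g g' hg hg' e := by
  rw [Category.assoc, D.map_comp l k g g' g'' hg hg' hg'' e e' e'']

theorem res_ofPoint {T' T W : Over S} (l : T' ⟶ T) (k : T ⟶ W) (g : W ⟶ U) (hg : R g)
    (x : (yon S).obj T ⟶ D.F g hg) (hx : x ≫ D.π g hg = (yon S).map k) :
    (D.ofPoint k g hg x hx).res l = D.ofPoint (l ≫ k) g hg ((yon S).map l ≫ x)
      (by rw [Category.assoc, hx, Functor.map_comp]) := by
  refine Pt.ext_map (l ≫ k) g hg (Category.assoc _ _ _) rfl ?_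
  refine Eq.trans ?_ (D.ofPoint_map _ _ _ _ _).symm
  refine (Pt.map_map l k g (k ≫ g) _ hg (R.downward_closed hg k) _ rfl rfl (Category.assoc _ _ _) _).trans ?_
  refine (congrArg (· ≫ D.map k g (k ≫ g) hg (R.downward_closed hg k) rfl) (Pt.res_map l (D.ofPoint k g hg x hx))).trans ?_
  exact (Category.assoc _ _ _).trans (congrArg ((yon S).map l ≫ ·) (D.ofPoint_map k g hg x hx))

theorem Pt.res_res {T'' T' T : Over S} (l : T'' ⟶ T') (k : T' ⟶ T) (x : D.Pt T) :
    (x.res k).res l = x.res (l ≫ k) :=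
  (res_ofPoint l k x.g x.mem _ _).trans (D.ofPoint_congr _ _ _ _ (by rw [Functor.map_comp, Category.assoc]))

variable (D)

/-- The presheaf of points. -/
def glue₀ : AlgSp.PSp S where
  obj T := D.Pt T.unop
  map k := ↾fun x => x.res k.unop
  map_id T := by ext x; exact Pt.res_id x
  map_comp k l := by ext x; exact (Pt.res_res l.unop k.unop x).symm

/-- The presheaf of points lies over the base. -/
def glue₀π : D.glue₀ ⟶ ((yon S).obj U).obj where
  app T := ↾fun x => ULift.up x.g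
  naturality T T' k := by ext x; rfl

/-- The glued sheaf. -/
def glue : Sp S := (presheafToSheaf (J S) (Type (u + 1))).obj D.glue₀

/-- Its structure map. -/
def glueπ : D.glue ⟶ (yon S).obj U :=
  ((sheafificationAdjunction (J S) (Type (u + 1))).homEquiv _ _).symm D.glue₀π

/-- The base of a section of a member. -/
def baseOf ⦃W : Over S⦄ (g : W ⟶ U) (hg : R g) {T : Over S} (z : (D.F g hg).obj.obj (op T)) : T ⟶ W :=
  (yon S).preimage ((J S).uliftYonedaEquiv.symm z ≫ D.π g hg)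

theorem baseOf_spec ⦃W : Over S⦄ (g : W ⟶ U) (hg : R g) {T : Over S} (z : (D.F g hg).obj.obj (op T)) :
    (J S).uliftYonedaEquiv.symm z ≫ D.π g hg = (yon S).map (D.baseOf g hg z) :=
  (Functor.map_preimage _ _).symm

theorem π_app_eq ⦃W : Over S⦄ (g : W ⟶ U) (hg : R g) {T : Over S} (z : (D.F g hg).obj.obj (op T)) :
    (D.π g hg).hom.app (op T) z = ULift.up (D.baseOf g hg z) := by
  have h1 := congrArg (J S).uliftYonedaEquiv (D.baseOf_spec g hg z)
  rw [GrothendieckTopology.uliftYonedaEquiv_comp, Equiv.apply_symm_apply,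
    GrothendieckTopology.uliftYonedaEquiv_uliftYoneda_map] at h1
  exact h1

/-- The points of a member. -/
def ι₀ ⦃W : Over S⦄ (g : W ⟶ U) (hg : R g) : (D.F g hg).obj ⟶ D.glue₀ where
  app T := ↾fun z => D.ofPoint (D.baseOf g hg z) g hg _ (D.baseOf_spec g hg z)
  naturality T T' l := by
    ext z
    refine Eq.trans ?_ (res_ofPoint l.unop _ g hg _ (D.baseOf_spec g hg z)).symm
    exact D.ofPoint_congr g hg (D.baseOf_spec g hg _) _ (GrothendieckTopology.uliftYonedaEquiv_symm_map _ l z)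

theorem ι₀_app ⦃W : Over S⦄ (g : W ⟶ U) (hg : R g) {T : Over S} (z : (D.F g hg).obj.obj (op T)) :
    (D.ι₀ g hg).app (op T) z = D.ofPoint (D.baseOf g hg z) g hg _ (D.baseOf_spec g hg z) := rfl

theorem isPullback_ι₀ ⦃W : Over S⦄ (g : W ⟶ U) (hg : R g) :
    IsPullback (D.ι₀ g hg) (D.π g hg).hom D.glue₀π ((yon S).map g).hom := by
  suffices hT : ∀ T : Over S, IsPullback ((D.ι₀ g hg).app (op T)) ((D.π g hg).hom.app (op T))
      (D.glue₀π.app (op T)) (((yon S).map g).hom.app (op T)) from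
    IsPullback.of_forall_isPullback_app fun T => hT T.unop
  intro T
  have key : ∀ z : (D.F g hg).obj.obj (op T), ((yon S).map g).hom.app (op T) ((D.π g hg).hom.app (op T) z) =
      ULift.up (D.baseOf g hg z ≫ g) := fun z => by rw [D.π_app_eq]; rfl
  refine (Types.isPullback_iff.{u + 1} _ _ _ _).2 ⟨?_, fun z z' h => ?_, fun x w h => ?_⟩
  · ext z
    exact (key z).symm
  · obtain ⟨h₁, h₂⟩ := h
    change (D.π g hg).hom.app (op T) z = (D.π g hg).hom.app (op T) z' at h₂
    rw [D.π_app_eq, D.π_app_eq] at h₂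
    have hk : D.baseOf g hg z = D.baseOf g hg z' := congrArg ULift.down h₂
    apply (GrothendieckTopology.uliftYonedaEquiv.{u + 1} (J S) (X := T) (F := D.F g hg)).symm.injective
    change D.ofPoint _ g hg _ (D.baseOf_spec g hg z) = D.ofPoint _ g hg _ (D.baseOf_spec g hg z') at h₁
    have aux : ∀ (k k' : T ⟶ W) (x x' : (yon S).obj T ⟶ D.F g hg) (hx : x ≫ D.π g hg = (yon S).map k)
        (hx' : x' ≫ D.π g hg = (yon S).map k'), k = k' →
        D.ofPoint k g hg x hx = D.ofPoint k' g hg x' hx' → x = x' := by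
      rintro k k' x x' hx hx' rfl he
      have h3 : ∀ (y y' : D.Pt T) (e : k ≫ g = y.g) (e' : k ≫ g = y'.g), y = y' →
          y.p ≫ D.map k g y.g hg y.mem e = y'.p ≫ D.map k g y'.g hg y'.mem e' := by
        rintro y y' e e' rfl; rfl
      exact (D.ofPoint_map k g hg x hx).symm.trans
        ((h3 _ _ rfl rfl he).trans (D.ofPoint_map k g hg x' hx'))
    exact aux _ _ _ _ _ _ hk h₁
  · let k : T ⟶ W := w.down
    change D.Pt T at x
    have ex : k ≫ g = x.g := (congrArg ULift.down h).symm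
    have hz : (x.p ≫ D.map k g x.g hg x.mem ex) ≫ D.π g hg = (yon S).map k := by
      rw [Category.assoc, (D.cart k g x.g hg x.mem ex).w, ← Category.assoc, x.over, Category.id_comp]
    refine ⟨GrothendieckTopology.uliftYonedaEquiv.{u + 1} (J S) (X := T) (F := D.F g hg) (x.p ≫ D.map k g x.g hg x.mem ex), ?_, ?_⟩
    · rw [D.ι₀_app]
      refine (D.ofPoint_congr g hg _ hz (Equiv.symm_apply_apply _ _)).trans ?_
      exact Pt.ext_map k g hg rfl ex (D.ofPoint_map k g hg _ hz)
    · refine ((J S).uliftYonedaEquiv_comp (x.p ≫ D.map k g x.g hg x.mem ex) (D.π g hg)).symm.trans ?_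
      rw [hz, GrothendieckTopology.uliftYonedaEquiv_uliftYoneda_map]
      rfl

theorem map_ι₀ ⦃W' W : Over S⦄ (k : W' ⟶ W) (g : W ⟶ U) (g' : W' ⟶ U) (hg : R g) (hg' : R g')
    (e : k ≫ g = g') : (D.map k g g' hg hg' e).hom ≫ D.ι₀ g hg = D.ι₀ g' hg' := by
  ext T z
  obtain ⟨T⟩ := T
  show (D.ι₀ g hg).app (op T) ((D.map k g g' hg hg' e).hom.app (op T) z) = (D.ι₀ g' hg').app (op T) z
  rw [D.ι₀_app, D.ι₀_app]
  have hx : (J S).uliftYonedaEquiv.symm ((D.map k g g' hg hg' e).hom.app (op T) z) =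
      (J S).uliftYonedaEquiv.symm z ≫ D.map k g g' hg hg' e :=
    (GrothendieckTopology.uliftYonedaEquiv.{u + 1} (J S) (X := T) (F := D.F g hg)).injective (by
      rw [Equiv.apply_symm_apply, GrothendieckTopology.uliftYonedaEquiv_comp, Equiv.apply_symm_apply])
  let k₀ := D.baseOf g' hg' z
  have hx' : ((J S).uliftYonedaEquiv.symm z ≫ D.map k g g' hg hg' e) ≫ D.π g hg = (yon S).map (k₀ ≫ k) := by
    rw [Category.assoc, (D.cart k g g' hg hg' e).w, ← Category.assoc, D.baseOf_spec g' hg' z,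
      ← Functor.map_comp]
  refine (D.ofPoint_congr g hg _ hx' hx).trans ?_
  refine Pt.ext_map (k₀ ≫ k) g hg rfl ((Category.assoc _ _ _).trans (congrArg (k₀ ≫ ·) e)) ?_
  refine (D.ofPoint_map _ g hg _ hx').trans ?_
  refine Eq.trans ?_ (Pt.map_map k₀ k g g' (k₀ ≫ g') hg hg' (R.downward_closed hg' k₀) e rfl _ _).symm
  exact congrArg (· ≫ D.map k g g' hg hg' e) (D.ofPoint_map k₀ g' hg' _ _).symm

/-- The inclusion of a member in the glued sheaf. -/
def ι ⦃W : Over S⦄ (g : W ⟶ U) (hg : R g) : D.F g hg ⟶ D.glue :=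
  inv ((sheafificationAdjunction (J S) (Type (u + 1))).counit.app (D.F g hg)) ≫
    (presheafToSheaf (J S) (Type (u + 1))).map (D.ι₀ g hg)

theorem map_ι ⦃W' W : Over S⦄ (k : W' ⟶ W) (g : W ⟶ U) (g' : W' ⟶ U) (hg : R g) (hg' : R g')
    (e : k ≫ g = g') : D.map k g g' hg hg' e ≫ D.ι g hg = D.ι g' hg' := by
  unfold SheafFam.ι
  rw [IsIso.eq_inv_comp, ← Category.assoc, ← Category.assoc]
  have hn := (sheafificationAdjunction (J S) (Type (u + 1))).counit.naturality (D.map k g g' hg hg' e)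
  simp only [Functor.comp_map, Functor.id_map] at hn
  rw [← hn, Category.assoc, Category.assoc, IsIso.hom_inv_id_assoc]
  exact ((presheafToSheaf (J S) (Type (u + 1))).map_comp _ _).symm.trans (congrArg _ (D.map_ι₀ k g g' hg hg' e))

theorem isPullback_ι ⦃W : Over S⦄ (g : W ⟶ U) (hg : R g) :
    IsPullback (D.ι g hg) (D.π g hg) D.glueπ ((yon S).map g) := by
  let adj := sheafificationAdjunction (J S) (Type (u + 1))
  have sq := (D.isPullback_ι₀ g hg).map (presheafToSheaf (J S) (Type (u + 1)))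
  refine sq.of_iso (asIso (adj.counit.app (D.F g hg))) (Iso.refl _) (asIso (adj.counit.app ((yon S).obj W)))
    (asIso (adj.counit.app ((yon S).obj U))) ?_ ?_ ?_ ?_
  · simp [SheafFam.ι, adj]
    exact Category.comp_id _
  · exact (adj.counit.naturality (D.π g hg))
  · refine Eq.trans ?_ (Category.id_comp _).symm
    exact (Adjunction.homEquiv_counit (adj := adj) (X := D.glue₀) (Y := (yon S).obj U) (g := D.glue₀π)).symm
  · exact (adj.counit.naturality ((yon S).map g))

end SheafFam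

end Groth.L24.Tors
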