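import Groth.Agent.L24.Tors.SheafDescent
import Groth.Agent.L24.Tors.Members
import Groth.Agent.L24.Tors.FibGrpd
import Groth.Agent.L24.Tors.Basic
import Groth.Agent.L23.Cover

/-!
Gluing of torsors along a covering sieve.
-/

set_option autoImplicit false
set_option backward.isDefEq.respectTransparency false
set_option backward.isDefEq.respectTransparency.types false

universe u

open CategoryTheory CategoryTheory.Limits MonoidalCategory CartesianMonoidalCategory AlgebraicGeometry AlgSp Opposite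

noncomputable section

namespace Groth.L24.Tors

variable {S : Scheme.{u}} {B : Sp S}

/-- A torsor with prescribed base. -/
structure TObj (G : Over B) [GrpObj G] {X : Over B} (aX : AlgSp.GAction G X) (T : Over S) : Type (u + 2) where
  /-- the section of the base sheaf -/
  b : (yon S).obj T ⟶ B
  /-- the torsor -/
  P : Over B
  /-- the action -/
  act : AlgSp.GAction G P
  /-- the structure map -/
  π : P ⟶ Over.mk b
  cart : IsPullback act.act (snd G P) π π
  loc : AlgSt.HasSecLoc Scheme.fppfPrecoverage π.left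
  /-- the map to the target -/
  φ : P ⟶ X
  eqv : act.act ≫ φ = (G ◁ φ) ≫ aX.act

variable {G : Over B} [GrpObj G] {X : Over B} {aX : AlgSp.GAction G X}

/-- The object of the quotient category. -/
def TObj.obj {T : Over S} (A : TObj G aX T) : AlgSt.SpQuotObj Scheme.fppfPrecoverage G aX :=
  ⟨T, A.b, A.P, A.act, A.π, A.cart, A.loc, A.φ, A.eqv⟩

/-- Descent data for torsors along a sieve. -/
structure TFam (G : Over B) [GrpObj G] {X : Over B} (aX : AlgSp.GAction G X) {U : Over S} (R : Sieve U) :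
    Type (u + 2) where
  /-- the torsor over a member -/
  A : ∀ ⦃W : Over S⦄ (g : W ⟶ U), R g → TObj G aX W
  /-- the transition morphism -/
  hom : ∀ ⦃W' W : Over S⦄ (k : W' ⟶ W) (g : W ⟶ U) (g' : W' ⟶ U) (hg : R g) (hg' : R g'),
    k ≫ g = g' → ((A g' hg').obj ⟶ (A g hg).obj)
  base : ∀ ⦃W' W : Over S⦄ (k : W' ⟶ W) (g : W ⟶ U) (g' : W' ⟶ U) (hg : R g) (hg' : R g') (e : k ≫ g = g'),
    (hom k g g' hg hg' e).base = k
  comp : ∀ ⦃W'' W' W : Over S⦄ (l : W'' ⟶ W') (k : W' ⟶ W) (g : W ⟶ U) (g' : W' ⟶ U) (g'' : W'' ⟶ U)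
    (hg : R g) (hg' : R g') (hg'' : R g'') (e : k ≫ g = g') (e' : l ≫ g' = g'') (e'' : (l ≫ k) ≫ g = g''),
    hom l g' g'' hg' hg'' e' ≫ hom k g g' hg hg' e = hom (l ≫ k) g g'' hg hg'' e''

namespace TFam

variable {U : Over S} {R : Sieve U} (D : TFam G aX R)

theorem bHom_left ⦃W' W : Over S⦄ (k : W' ⟶ W) (g : W ⟶ U) (g' : W' ⟶ U) (hg : R g) (hg' : R g')
    (e : k ≫ g = g') :
    (yon S).map k ≫ (D.A g hg).b = (D.A g' hg').b :=
  (congrArg (fun z => (yon S).map z ≫ (D.A g hg).b) (D.base k g g' hg hg' e)).symm.trans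
    (D.hom k g g' hg hg' e).wb

theorem top_cart ⦃W' W : Over S⦄ (k : W' ⟶ W) (g : W ⟶ U) (g' : W' ⟶ U) (hg : R g) (hg' : R g')
    (e : k ≫ g = g') :
    IsPullback (D.hom k g g' hg hg' e).top.left (D.A g' hg').π.left (D.A g hg).π.left ((yon S).map k) :=
  (congrArg (fun z => IsPullback (D.hom k g g' hg hg' e).top.left (D.A g' hg').π.left (D.A g hg).π.left
      ((yon S).map z)) (D.base k g g' hg hg' e)).mp
    ((D.hom k g g' hg hg' e).cart.map (Over.forget B))

/-- The underlying family of sheaves. -/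
def sheafFam : SheafFam R where
  F W g hg := (D.A g hg).P.left
  π W g hg := (D.A g hg).π.left
  map W' W k g g' hg hg' e := (D.hom k g g' hg hg' e).top.left
  cart W' W k g g' hg hg' e := D.top_cart k g g' hg hg' e
  map_comp W'' W' W l k g g' g'' hg hg' hg'' e e' e'' := by
    rw [← Over.comp_left, ← AlgSt.SpQuotObj.comp_top]
    exact congrArg (fun z => z.top.left) (D.comp l k g g' g'' hg hg' hg'' e e' e'')

/-- The common refinement of the trivialising coverings. -/
theorem exists_section_cover (hR : R ∈ J S U) :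
    ∃ R' ∈ Scheme.fppfPrecoverage U.left, ∀ ⦃T' : Scheme.{u}⦄ (f : T' ⟶ U.left), R' f →
      ∃ (W : Over S) (g : W ⟶ U) (_ : R g) (T : Over S) (q : Over.mk (f ≫ U.hom) ⟶ T) (k : T ⟶ W)
        (hg : R g) (s : (yon S).obj T ⟶ (D.A g hg).P.left),
        s ≫ (D.A g hg).π.left = (yon S).map k ∧ q ≫ k ≫ g = Over.homMk f := by
  rw [GrothendieckTopology.mem_over_iff] at hR
  have : Scheme.fppfPrecoverage.{u}.HasPullbacks := by
    unfold Scheme.fppfPrecoverage; infer_instance
  have : Scheme.fppfPrecoverage.{u}.HasIsos := by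
    unfold Scheme.fppfPrecoverage
    have : MorphismProperty.ContainsIdentities (@Flat ⊓ @LocallyOfFinitePresentation) :=
      ⟨fun X => ⟨inferInstanceAs (Flat (𝟙 X)), inferInstanceAs (LocallyOfFinitePresentation (𝟙 X))⟩⟩
    infer_instance
  obtain ⟨R₀, hR₀, hle⟩ :=
    (Precoverage.mem_toGrothendieck_iff_of_isStableUnderComposition (J := Scheme.fppfPrecoverage)).1 hR
  obtain ⟨I, Y, f, rfl⟩ := R₀.exists_eq_ofArrows
  have hf : ∀ i, R (Over.homMk (f i) rfl : Over.mk (f i ≫ U.hom) ⟶ U) := fun i =>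
    (Sieve.overEquiv_iff (Y := U) _ _).1 (hle _ (f i) (.mk i))
  choose Rl hRl hsec using fun i => (D.A _ (hf i)).loc
  choose L Z h hL using fun i => (Rl i).exists_eq_ofArrows
  obtain ⟨hs, hp⟩ := (Scheme.ofArrows_mem_precoverage_iff _).1 hR₀
  have hRl' : ∀ i, Presieve.ofArrows (Z i) (h i) ∈ Scheme.fppfPrecoverage (Y i) := fun i => by
    rw [← hL i]; exact hRl i
  refine ⟨.ofArrows (fun ij : Σ i, L i => Z ij.1 ij.2) (fun ij => h ij.1 ij.2 ≫ f ij.1),
    (Scheme.ofArrows_mem_precoverage_iff _).2 ⟨fun x => ?_, fun ij => ?_⟩, ?_⟩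
  · obtain ⟨i, y, rfl⟩ := hs x
    obtain ⟨j, z, rfl⟩ := ((Scheme.ofArrows_mem_precoverage_iff _).1 (hRl' i)).1 y
    exact ⟨⟨i, j⟩, z, Scheme.Hom.comp_apply _ _ _⟩
  · obtain ⟨h1, h2⟩ := ((Scheme.ofArrows_mem_precoverage_iff _).1 (hRl' ij.1)).2 ij.2
    exact ⟨MorphismProperty.comp_mem _ _ _ h1 (hp ij.1).1, MorphismProperty.comp_mem _ _ _ h2 (hp ij.1).2⟩
  · rintro T' v ⟨⟨i, j⟩⟩
    have hm : Rl i (h i j) := by rw [hL i]; exact .mk j
    obtain ⟨s, hs⟩ := hsec i (h i j) hm
    refine ⟨_, Over.homMk (f i), hf i, Over.mk (h i j ≫ (Over.mk (f i ≫ U.hom)).hom),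
      Over.homMk (𝟙 _) (by simp), Over.homMk (h i j), hf i, s, hs, ?_⟩
    ext1
    simp

variable (hR : R ∈ J S U)

include hR in
theorem exists_b : ∃ b : (yon S).obj U ⟶ B, ∀ ⦃W : Over S⦄ (g : W ⟶ U) (hg : R g),
    (yon S).map g ≫ b = (D.A g hg).b :=
  exists_glue_sieve hR (fun W g hg => (D.A g hg).b) fun W W' g hg k =>
    D.bHom_left k g (k ≫ g) hg (R.downward_closed hg k) rfl

/-- The glued section. -/
def b : (yon S).obj U ⟶ B := (D.exists_b hR).choose

theorem b_spec ⦃W : Over S⦄ (g : W ⟶ U) (hg : R g) : (yon S).map g ≫ D.b hR = (D.A g hg).b :=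
  (D.exists_b hR).choose_spec g hg

/-- The glued sheaf over the base sheaf. -/
def P : Over B := Over.mk (D.sheafFam.glueπ ≫ D.b hR)

/-- Its structure map. -/
def π : D.P hR ⟶ Over.mk (D.b hR) := Over.homMk D.sheafFam.glueπ rfl

/-- The inclusion of a member. -/
def ι ⦃W : Over S⦄ (g : W ⟶ U) (hg : R g) : (D.A g hg).P ⟶ D.P hR :=
  Over.homMk (D.sheafFam.ι g hg) (by
    show D.sheafFam.ι g hg ≫ D.sheafFam.glueπ ≫ D.b hR = _
    rw [← Category.assoc, (D.sheafFam.isPullback_ι g hg).w, Category.assoc, D.b_spec hR g hg]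
    exact Over.w (D.A g hg).π)

theorem isPullback_ι ⦃W : Over S⦄ (g : W ⟶ U) (hg : R g) :
    IsPullback (D.ι hR g hg) (D.A g hg).π (D.π hR) (AlgSt.bHom g (D.b_spec hR g hg)) :=
  IsPullback.of_map_of_faithful (Over.forget B) (D.sheafFam.isPullback_ι g hg)

theorem hom_top_ι ⦃W' W : Over S⦄ (k : W' ⟶ W) (g : W ⟶ U) (g' : W' ⟶ U) (hg : R g) (hg' : R g')
    (e : k ≫ g = g') : (D.hom k g g' hg hg' e).top ≫ D.ι hR g hg = D.ι hR g' hg' :=
  Over.OverMorphism.ext (D.sheafFam.map_ι k g g' hg hg' e)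

theorem isPullback_tensor_ι ⦃W : Over S⦄ (g : W ⟶ U) (hg : R g) :
    IsPullback (G ◁ D.ι hR g hg).left ((snd G (D.A g hg).P).left ≫ (D.A g hg).π.left)
      ((snd G (D.P hR)).left ≫ (D.π hR).left) ((yon S).map g) :=
  (((AlgSt.isPullback_whiskerLeft' (D.ι hR g hg)).paste_vert (D.isPullback_ι hR g hg)).map (Over.forget B))

include hR in
theorem exists_act : ∃ a : G ⊗ D.P hR ⟶ D.P hR, ∀ ⦃W : Over S⦄ (g : W ⟶ U) (hg : R g),
    (G ◁ D.ι hR g hg) ≫ a = (D.A g hg).act.act ≫ D.ι hR g hg := by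
  obtain ⟨a, ha⟩ := exists_glue_members (Q := (D.P hR).left) hR (D.isPullback_tensor_ι hR)
    (fun W g hg => ((D.A g hg).act.act ≫ D.ι hR g hg).left) fun W' W k g g' hg hg' e =>
      ⟨(G ◁ (D.hom k g g' hg hg' e).top).left, by
        rw [← Over.comp_left, ← MonoidalCategory.whiskerLeft_comp, D.hom_top_ι hR], by
        rw [← Category.assoc, ← Over.comp_left, whiskerLeft_snd, Over.comp_left, Category.assoc,
          (D.top_cart k g g' hg hg' e).w, Category.assoc]
        rfl, by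
        rw [← Over.comp_left, ← Category.assoc]
        show (((G ◁ (D.hom k g g' hg hg' e).top) ≫ (D.A g hg).obj.act.act) ≫ _).left = _
        rw [← (D.hom k g g' hg hg' e).eqv, Category.assoc, D.hom_top_ι hR]
        rfl⟩
  refine ⟨Over.homMk a ?_, fun W g hg => Over.OverMorphism.ext (ha g hg)⟩
  refine hom_ext_members hR (D.isPullback_tensor_ι hR) fun W g hg => ?_
  rw [← Category.assoc, ha g hg, Over.w]
  exact (Over.w (G ◁ D.ι hR g hg)).symm

theorem ext_tensor {Q : Over B} {a c : G ⊗ D.P hR ⟶ Q}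
    (h : ∀ ⦃W : Over S⦄ (g : W ⟶ U) (hg : R g), (G ◁ D.ι hR g hg) ≫ a = (G ◁ D.ι hR g hg) ≫ c) : a = c :=
  Over.OverMorphism.ext (hom_ext_members hR (D.isPullback_tensor_ι hR) fun W g hg => by
    rw [← Over.comp_left, ← Over.comp_left, h g hg])

theorem ext_P {Q : Over B} {a c : D.P hR ⟶ Q}
    (h : ∀ ⦃W : Over S⦄ (g : W ⟶ U) (hg : R g), D.ι hR g hg ≫ a = D.ι hR g hg ≫ c) : a = c :=
  Over.OverMorphism.ext (hom_ext_members hR (q := D.sheafFam.glueπ) (pm := D.sheafFam.π)
    (j := fun W g hg => (D.ι hR g hg).left) (fun W g hg => D.sheafFam.isPullback_ι g hg) fun W g hg => by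
      rw [← Over.comp_left, ← Over.comp_left, h g hg])

/-- The glued action. -/
def act : AlgSp.GAction G (D.P hR) where
  act := (D.exists_act hR).choose
  one_act := by
    have h := (D.exists_act hR).choose_spec
    rw [← cancel_epi (λ_ (D.P hR)).inv, Iso.inv_hom_id]
    refine D.ext_P hR fun W g hg => ?_
    rw [leftUnitor_inv_naturality_assoc, whisker_exchange_assoc, h g hg]
    have e1 := (D.A g hg).act.one_act
    rw [reassoc_of% e1, Iso.inv_hom_id_assoc, Category.comp_id]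
  mul_act := by
    have h := (D.exists_act hR).choose_spec
    have sq : ∀ ⦃W : Over S⦄ (g : W ⟶ U) (hg : R g),
        IsPullback ((G ⊗ G) ◁ D.ι hR g hg).left ((snd (G ⊗ G) (D.A g hg).P).left ≫ (D.A g hg).π.left)
          ((snd (G ⊗ G) (D.P hR)).left ≫ (D.π hR).left) ((yon S).map g) := fun W g hg =>
      (((AlgSt.isPullback_whiskerLeft' (G := G ⊗ G) (D.ι hR g hg)).paste_vert
        (D.isPullback_ι hR g hg)).map (Over.forget B))
    refine Over.OverMorphism.ext (hom_ext_members hR sq fun W g hg => ?_)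
    rw [← Over.comp_left, ← Over.comp_left]
    congr 1
    rw [whisker_exchange_assoc, h g hg, associator_naturality_right_assoc,
      ← MonoidalCategory.whiskerLeft_comp_assoc, h g hg, MonoidalCategory.whiskerLeft_comp_assoc, h g hg]
    exact (reassoc_of% (D.A g hg).act.mul_act) _

theorem ι_act ⦃W : Over S⦄ (g : W ⟶ U) (hg : R g) :
    (G ◁ D.ι hR g hg) ≫ (D.act hR).act = (D.A g hg).act.act ≫ D.ι hR g hg :=
  (D.exists_act hR).choose_spec g hg

theorem act_π : (D.act hR).act ≫ D.π hR = snd G (D.P hR) ≫ D.π hR := by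
  refine D.ext_tensor hR fun W g hg => ?_
  rw [← Category.assoc, D.ι_act hR g hg, Category.assoc, (D.isPullback_ι hR g hg).w, ← Category.assoc,
    (D.A g hg).cart.w, whiskerLeft_snd_assoc, Category.assoc, ← (D.isPullback_ι hR g hg).w]

theorem act_cart : IsPullback (D.act hR).act (snd G (D.P hR)) (D.π hR) (D.π hR) := by
  let Z := pullback (D.π hR) (D.π hR)
  let c : G ⊗ D.P hR ⟶ Z := pullback.lift (D.act hR).act (snd G (D.P hR)) (D.act_π hR)
  let q : Z ⟶ Over.mk (D.b hR) := pullback.snd _ _ ≫ D.π hR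
  have hj : ∀ ⦃W : Over S⦄ (g : W ⟶ U) (hg : R g),
      IsPullback ((G ◁ D.ι hR g hg) ≫ c) ((snd G (D.A g hg).P) ≫ (D.A g hg).π) q
        (AlgSt.bHom g (D.b_spec hR g hg)) := fun W g hg => by
    have h2 : IsPullback ((G ◁ D.ι hR g hg) ≫ c) (snd G (D.A g hg).P) (pullback.snd (D.π hR) (D.π hR))
        (D.ι hR g hg) := by
      refine IsPullback.of_right ?_ (by simp [c]) (IsPullback.of_hasPullback (D.π hR) (D.π hR))
      rw [Category.assoc, pullback.lift_fst, D.ι_act hR g hg, (D.isPullback_ι hR g hg).w]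
      exact (D.A g hg).cart.paste_horiz (D.isPullback_ι hR g hg)
    exact h2.paste_vert (D.isPullback_ι hR g hg)
  have hjf := fun W g hg => (hj (W := W) g hg).map (Over.forget B)
  obtain ⟨d, hd⟩ := exists_glue_members (Q := (G ⊗ D.P hR).left) hR hjf
    (fun W g hg => (G ◁ D.ι hR g hg).left) fun W' W k g g' hg hg' e =>
      ⟨(G ◁ (D.hom k g g' hg hg' e).top).left, by
        show _ ≫ ((G ◁ D.ι hR g hg) ≫ c).left = _
        rw [← Over.comp_left, ← MonoidalCategory.whiskerLeft_comp_assoc, D.hom_top_ι hR]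
        rfl, by
        show _ ≫ (snd G _ ≫ _).left = (snd G _ ≫ _).left ≫ _
        rw [← Over.comp_left, whiskerLeft_snd_assoc, Over.comp_left, Over.comp_left,
          (D.top_cart k g g' hg hg' e).w, Over.comp_left, Category.assoc], by
        rw [← Over.comp_left, ← MonoidalCategory.whiskerLeft_comp, D.hom_top_ι hR]⟩
  have e1 : c.left ≫ d = 𝟙 _ := hom_ext_members hR (D.isPullback_tensor_ι hR) fun W g hg => by
    rw [← Category.assoc, ← Over.comp_left]
    exact (hd g hg).trans (Category.comp_id _).symm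
  have e2 : d ≫ c.left = 𝟙 _ := hom_ext_members hR hjf fun W g hg => by
    rw [← Category.assoc, hd g hg, ← Over.comp_left]
    exact (Category.comp_id _).symm
  have : IsIso c := by
    have : IsIso ((Over.forget B).map c) := ⟨d, e1, e2⟩
    exact isIso_of_reflects_iso c (Over.forget B)
  exact (IsPullback.of_hasPullback (D.π hR) (D.π hR)).of_iso (asIso c).symm (Iso.refl _) (Iso.refl _) (Iso.refl _)
    (by simp [c]) (by simp [c]) (by simp) (by simp)

include hR in
theorem exists_φ : ∃ φ : D.P hR ⟶ X, (∀ ⦃W : Over S⦄ (g : W ⟶ U) (hg : R g), D.ι hR g hg ≫ φ = (D.A g hg).φ) ∧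
    (D.act hR).act ≫ φ = (G ◁ φ) ≫ aX.act := by
  obtain ⟨φ, hφ⟩ := exists_glue_members (Q := X.left) hR
    (q := D.sheafFam.glueπ) (pm := D.sheafFam.π) (j := fun W g hg => (D.ι hR g hg).left)
    (fun W g hg => D.sheafFam.isPullback_ι g hg) (fun W g hg => (D.A g hg).φ.left) fun W' W k g g' hg hg' e =>
      ⟨(D.hom k g g' hg hg' e).top.left, congrArg (fun z => z.left) (D.hom_top_ι hR k g g' hg hg' e),
        (D.top_cart k g g' hg hg' e).w, congrArg (fun z => z.left) (D.hom k g g' hg hg' e).wφ⟩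
  have w : φ ≫ X.hom = (D.P hR).hom := hom_ext_members hR (q := D.sheafFam.glueπ) (pm := D.sheafFam.π)
    (j := fun W g hg => (D.ι hR g hg).left) (fun W g hg => D.sheafFam.isPullback_ι g hg) fun W g hg => by
      rw [← Category.assoc, hφ g hg, Over.w]
      exact (Over.w (D.ι hR g hg)).symm
  have h : ∀ ⦃W : Over S⦄ (g : W ⟶ U) (hg : R g), D.ι hR g hg ≫ Over.homMk φ w = (D.A g hg).φ :=
    fun W g hg => Over.OverMorphism.ext (hφ g hg)
  refine ⟨Over.homMk φ w, h, D.ext_tensor hR fun W g hg => ?_⟩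
  rw [← Category.assoc, D.ι_act hR g hg, Category.assoc, h g hg, (D.A g hg).eqv,
    ← MonoidalCategory.whiskerLeft_comp_assoc, h g hg]

include hR in
theorem hasSecLoc : AlgSt.HasSecLoc Scheme.fppfPrecoverage (D.π hR).left := by
  obtain ⟨R', hR', h⟩ := D.exists_section_cover hR
  refine ⟨R', hR', fun T' f hf => ?_⟩
  obtain ⟨W, g, -, T, q, k, hg, s, hs, e⟩ := h f hf
  refine ⟨(yon S).map q ≫ s ≫ (D.ι hR g hg).left, ?_⟩
  show ((yon S).map q ≫ s ≫ D.sheafFam.ι g hg) ≫ D.sheafFam.glueπ = _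
  rw [Category.assoc, Category.assoc, (D.sheafFam.isPullback_ι g hg).w]
  show (yon S).map q ≫ s ≫ (D.A g hg).π.left ≫ (yon S).map g = _
  rw [reassoc_of% hs, ← Functor.map_comp, ← Functor.map_comp, e]

/-- The glued torsor. -/
def glued : TObj G aX U where
  b := D.b hR
  P := D.P hR
  act := D.act hR
  π := D.π hR
  cart := D.act_cart hR
  loc := D.hasSecLoc hR
  φ := (D.exists_φ hR).choose
  eqv := (D.exists_φ hR).choose_spec.2

/-- The morphism from a member. -/
def toGlued ⦃W : Over S⦄ (g : W ⟶ U) (hg : R g) : (D.A g hg).obj ⟶ (D.glued hR).obj where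
  base := g
  wb := D.b_spec hR g hg
  top := D.ι hR g hg
  eqv := (D.ι_act hR g hg).symm
  cart := D.isPullback_ι hR g hg
  wφ := (D.exists_φ hR).choose_spec.1 g hg

theorem hom_toGlued ⦃W' W : Over S⦄ (k : W' ⟶ W) (g : W ⟶ U) (g' : W' ⟶ U) (hg : R g) (hg' : R g')
    (e : k ≫ g = g') : D.hom k g g' hg hg' e ≫ D.toGlued hR g hg = D.toGlued hR g' hg' :=
  AlgSt.SpQuotObj.hom_ext ((congrArg (· ≫ g) (D.base k g g' hg hg' e)).trans e) (D.hom_top_ι hR k g g' hg hg' e)

end TFam

end Groth.L24.Tors
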